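import Cfsg.Agent.ReeW.A
import Cfsg.Agent.S4272
import Cfsg.Agent.AB.ELk
/-!
Groups of Ree type: the doubly transitive action of degree `q³ + 1` (`main'`), and no element has order divisible
by primes of both `q + 1 ± √(3q)` (`no_mix`).
-/

set_option autoImplicit false
set_option linter.unusedSectionVars false
set_option linter.unusedVariables false

namespace Cfsg.Agent.ReeW
open Subgroup MulAction Cfsg.Agent.BG Cfsg.Agent.GW Cfsg.Agent.Invol Cfsg.Agent.AB Cfsg.Agent.AB.E3 Cfsg.Agent.Classical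
open Cfsg.Agent.S4272
open scoped MatrixGroups

local notation "ZJ" => centerThompsonOf 3

section
variable {G : Type*} [Group G] [Finite G] {t w : G} {L U B A M : Subgroup G} {u s : L} {K : Subgroup L}

theorem two_card (h : IsMultiplyPretransitive G (G ⧸ M) 2) (wM : w ∉ M) : #(M ⊓ cj w M) * (M.index - 1) = #M := by
  have ne : ((1 : G) : G ⧸ M) ≠ w := fun r => wM (by simpa using QuotientGroup.eq.1 r)
  have k := h.index_of_fixingSubgroup_mul (Set.ncard_pair ne)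
  have e : fixingSubgroup G ({((1 : G) : G ⧸ M), (w : G ⧸ M)} : Set (G ⧸ M)) = M ⊓ cj w M := by
    ext g
    rw [mem_fixingSubgroup_iff]
    simp only [Set.mem_insert_iff, Set.mem_singleton_iff, forall_eq_or_imp, forall_eq, mem_inf, mem_cj]
    refine and_congr ⟨fun r => by simpa using QuotientGroup.eq.1 r.symm, fun r => (QuotientGroup.eq.2 (by simpa using r)).symm⟩
      ⟨fun r => by simpa [mul_assoc] using QuotientGroup.eq.1 r.symm,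
        fun r => (QuotientGroup.eq.2 (by simpa [mul_assoc] using r)).symm⟩
  have : Nontrivial (G ⧸ M) := ⟨_, _, ne⟩
  have n2 : 1 < M.index := Finite.one_lt_card
  rw [e, ← index_eq_card] at k
  obtain ⟨N, hN⟩ := Nat.exists_eq_add_of_le' (show 2 ≤ M.index from n2)
  have c1 := (M ⊓ cj w M).card_mul_index
  have c2 := M.card_mul_index
  rw [hN] at k c2 ⊢
  rw [Nat.add_sub_cancel, Nat.factorial_succ, Nat.factorial_succ, ← mul_assoc, Nat.mul_left_inj (Nat.factorial_ne_zero N)] at k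
  rw [k, ← c2] at c1
  refine Nat.eq_of_mul_eq_mul_right (show 0 < N + 2 by omega) ?_
  rw [← c1, show N + 2 - 1 = N + 1 from rfl]; ring

theorem main' (b : RB L U B) (h : WJ t L L u s K) [IsSimpleGroup G] {q n : ℕ} (hq : q = 3 ^ n) (hB : 2 * #B = q * (q - 1))
    (hG : Nat.card G = q ^ 3 * (q ^ 3 + 1) * (q - 1)) :
    ∃ M : Subgroup G, M.index = q ^ 3 + 1 ∧ IsMultiplyPretransitive G (G ⧸ M) 2 ∧ t ∈ M ∧ M ⊓ L = B := by
  classical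
  obtain ⟨P, hP, P0, hD, tZ⟩ := b.exists_P h
  obtain ⟨sd, eC, -, eB⟩ := b.loc h (hP.pg.sub (PLocal.ZJ_le 3 P)) (PLocal.ZJ_ne_bot hP.pg P0) hD tZ
  have PN : P ≤ N[ZJ P] := Sig.norms_ZJ (normG P)
  set M := N[ZJ P]
  set O := Op' 2 M
  have oO : Odd #O := odd_Op' _
  have om : ∀ x ∈ M, Odd (orderOf x) → x ∈ O := fun x hx ho => sub_normal_Hall (pHall_of_compl sd.compl
    (pcore_pgroup _ _) (by rw [compl_compl]; exact (pg_invol h.tt).pi)) sd.normal (zpowers_le.2 hx)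
    (pnat_odd.2 (by rwa [Nat.card_zpowers])) (mem_zpowers x)
  obtain ⟨w, wL, w2⟩ : ∃ w ∈ L, orderOf w = 2 := ⟨u, u.2, h.u2⟩
  obtain ⟨ww, w1⟩ := orderOf_two_iff.1 w2
  have wt := h.LC wL
  have wM : w ∉ M := fun r => w1 (b.nB h (eB.le ⟨r, wL⟩) ww)
  have c : zpowers w ≤ C[zpowers t] := by rw [C_zpowers]; exact zpowers_le.2 wt
  have nO : zpowers t ⊔ zpowers w ≤ N[O ⊓ cj w O] := by
    refine sup_le (normsI sd.norm (zpowers_le.2 ?_)) (zpowers_le.2 (BG.mem_norm.2 ?_))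
    · rw [BG.mem_norm, ← cj_mul, ← mem_cent1.1 wt, cj_mul, BG.mem_norm.1 (zpowers_le.1 sd.norm)]
    · rw [cj_inf, ← cj_mul, ww, cj_one, inf_comm]
  have p2 := pgroup_sup (.inr (cents_norm c)) (pg_invol h.tt) (pg_invol ww)
  have oD : Odd #(O ⊓ cj w O) := oddSg inf_le_left oO
  obtain ⟨R, hR, nR⟩ := coprime_Sylow_exists 3 nO (cop_two oD p2) (.inl (pgroup_sol p2))
  have oR := oddSg hR.le oD
  have cau : ∀ v, (∀ z ∈ R ⊓ C1[v], orderOf z ≠ 3) → R ⊓ C1[v] = ⊥ := fun v k => by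
    by_contra ne
    obtain ⟨z, hz, z3⟩ := Cauchy Nat.prime_three (pgroup_pdiv (hR.pg.sub inf_le_left) ne)
    exact k z hz z3
  have it := inv_of_cent_bot oR h.tt (nR (mem_sup_left (mem_zpowers t))) (cau t fun z hz z3 =>
    wM (inv_mem_iff.1 (hD (b.ti _ (inv_mem wL) z (eC.le ⟨(hR.le hz.1).1, hz.2⟩) z3
      (eC.le ⟨mem_cj_inv.1 (by rw [inv_inv]; exact (hR.le hz.1).2),
        C1[t].mul_mem (C1[t].mul_mem (inv_mem wt) hz.2) (inv_mem (inv_mem wt))⟩)))))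
  have iw := inv_of_cent_bot oR ww (nR (mem_sup_right (mem_zpowers w)))
    (cau w fun z hz z3 => b.key h ww w1 wt hz.2 z3 (it z hz.1))
  have R0 : R = ⊥ := by
    rw [← cau (t * w) fun z hz z3 => b.key h ?_ ?_ (mul_mem (cent1_self t) wt) hz.2 z3 (it z hz.1)]
    · exact (inf_eq_left.2 fun x hx => mem_C1.2 ((iw x hx).commute_mul (it x hx)).symm).symm
    · rw [mul_assoc, ← mul_assoc w, mem_cent1.1 wt, mul_assoc, ww, mul_one, h.tt]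
    · exact fun r => h.tE (by rw [eq_inv_of_mul_eq_one_left r]; exact inv_mem wL)
  have d3 : ¬ 3 ∣ #(M ⊓ cj w M) := fun r => by
    obtain ⟨z, hz, z3⟩ := Cauchy Nat.prime_three r
    exact (p'natE Nat.prime_three).1 (p'group_of_Hall_bot (R0 ▸ hR)) (z3 ▸ orderOf_dvd_cardG (show z ∈ O ⊓ cj w O from
      ⟨om z hz.1 (by rw [z3]; decide), mem_cj.2 (om _ (mem_cj.1 hz.2) (by
        rw [show w⁻¹ * z * w = w⁻¹ * z * w⁻¹⁻¹ by rw [inv_inv], BG.orderOf_conj', z3]; decide))⟩))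
  have q1 : 1 ≤ q := hq ▸ Nat.one_le_pow _ _ (by decide)
  have d1 : q ^ 3 ∣ #M := by
    obtain ⟨P', rfl⟩ := sylow_of_sylowIn_top hP
    rw [hq, ← pow_mul]
    exact (P'.pow_dvd_card_of_pow_dvd_card (by rw [pow_mul, ← hq, hG, mul_assoc]; exact dvd_mul_right _ _)).trans (cardSg PN)
  have d2 : q - 1 ∣ #M := by
    rw [← sd.card, Nat.card_zpowers, h.ht, mul_comm]
    exact (Dvd.intro_left q hB.symm).trans (mul_dvd_mul_left 2 (cardSg (eC.ge.trans inf_le_left)))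
  have d := Nat.Coprime.mul_dvd_of_dvd_of_dvd (((Nat.coprime_self_sub_right q1).2 (Nat.coprime_one_right q)).pow_left 3) d1 d2
  have d' := Nat.Coprime.mul_dvd_of_dvd_of_dvd (hq ▸ (((Nat.prime_three.coprime_iff_not_dvd).2 d3).pow_left n).pow_left 3) d1
    (cardSg (inf_le_left (b := cj w M)))
  have ci := M.index_mul_card
  have li : M.index ≤ q ^ 3 + 1 := by
    refine Nat.le_of_mul_le_mul_right ?_ (Nat.card_pos (α := M))
    rw [ci, hG, mul_comm (q ^ 3), mul_assoc]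
    exact Nat.mul_le_mul_left _ (Nat.le_of_dvd Nat.card_pos d)
  have := Fintype.ofFinite (G ⧸ M)
  have ne : ((1 : G) : G ⧸ M) ≠ w := fun r => wM (by simpa using QuotientGroup.eq.1 r)
  suffices two : IsMultiplyPretransitive G (G ⧸ M) 2 by
    refine ⟨M, le_antisymm li ?_, two, tZ, eB⟩
    rw [← two_card two wM, mul_comm (q ^ 3), Nat.mul_dvd_mul_iff_left (cardG_pos _)] at d'
    have := Nat.le_of_dvd (Nat.pos_of_mul_pos_left (two_card two wM ▸ cardG_pos M)) d'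
    have := Nat.one_le_pow 3 q q1
    omega
  refine Comp.isMultiplyPretransitive_of_card ⟨![((1 : G) : G ⧸ M), w], ?_⟩
    (Nat.card_pos (α := (M ⊓ cj w M : Subgroup G))) (card_le_card fun g hg => ?_) ?_
  · intro i j; fin_cases i <;> fin_cases j <;> simp [ne, ne.symm]
  · have k := Comp.mem_stabilizer_embedding.1 hg
    exact ⟨by simpa using QuotientGroup.eq.1 (k 0).symm, mem_cj.2 (by simpa [mul_assoc] using QuotientGroup.eq.1 (k 1).symm)⟩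
  · rw [← Nat.card_eq_fintype_card, ← index_eq_card, ← ci, Nat.descFactorial_succ, Nat.descFactorial_one, mul_comm _ M.index,
      mul_assoc]
    exact Nat.mul_le_mul_left _ ((Nat.mul_le_mul_right _ (by omega)).trans (Nat.le_of_dvd Nat.card_pos d'))


end

theorem mix_ar {ρ : ℤ} {p : ℕ} (hp : p.Prime) (h : (p : ℤ) ∣ 3 * ρ ^ 2 + 3 * ρ + 1) :
    ¬ (p : ℤ) ∣ 54 * ρ ^ 5 * (3 * ρ ^ 2 + 1) * (3 * ρ ^ 2 - 3 * ρ + 1) ∧
      ¬ (p : ℤ) ∣ 27 * ρ ^ 6 * (3 * ρ ^ 2 + 1) * (3 * ρ ^ 2 - 1) := by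
  have pr := Nat.prime_iff_prime_int.1 hp
  have k : ∀ a : ℤ, (∃ x y : ℤ, a * x + (3 * ρ ^ 2 + 3 * ρ + 1) * y = 1) → ¬ (p : ℤ) ∣ a := fun a ⟨x, y, e⟩ r =>
    pr.not_dvd_one (e ▸ (r.mul_right x).add (h.mul_right y))
  have k3 := k 3 ⟨-(ρ ^ 2 + ρ), 1, by ring⟩
  have kρ := k ρ ⟨-(3 * ρ + 3), 1, by ring⟩
  obtain ⟨j, hj⟩ := Int.even_mul_succ_self ρ
  have k2 := k 2 ⟨-(3 * j), 1, by linear_combination 3 * hj⟩
  have k4 : ¬ (p : ℤ) ∣ 3 * ρ ^ 2 + 1 := fun r => by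
    have := h.sub r
    rw [show _ - _ = 3 * ρ by ring, pr.dvd_mul] at this; tauto
  have k5 : ¬ (p : ℤ) ∣ 3 * ρ ^ 2 - 3 * ρ + 1 := fun r => by
    have := h.sub r
    rw [show _ - _ = 2 * 3 * ρ by ring, pr.dvd_mul, pr.dvd_mul] at this; tauto
  have k6 := k (3 * ρ ^ 2 - 1) ⟨3 * ρ + 1, 2 - 3 * ρ, by ring⟩
  have a1 : ∀ i, ¬ (p : ℤ) ∣ ρ ^ i := fun i r => kρ (pr.dvd_of_dvd_pow r)
  have a2 : ¬ (p : ℤ) ∣ 27 := fun r => k3 (pr.dvd_of_dvd_pow (n := 3) r)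
  have a3 : ¬ (p : ℤ) ∣ 54 := fun r => (pr.dvd_mul.1 (show (p : ℤ) ∣ 2 * 27 from r)).elim k2 a2
  simp only [pr.dvd_mul, not_or]
  exact ⟨⟨⟨⟨a3, a1 _⟩, k4⟩, k5⟩, ⟨⟨a2, a1 _⟩, k4⟩, k6⟩

open Cfsg.Agent.PF Cfsg.Agent.Block in
theorem no_mix {G : Type*} [Group G] [Fintype G] {t : G} {L : Subgroup G} {u s : L} {K : Subgroup L}
    {F : Type*} [Field F] [Finite F] (h : WJ t L L u s K) (hp : ⁅(⊤ : Subgroup G), (⊤ : Subgroup G)⁆ = ⊤)
    (e : L ≃* PSL(2, F)) {j : ℕ} (hj : Nat.card F = 3 ^ (2 * j + 1)) {p₁ p₂ : ℕ} (h1 : p₁.Prime) (h2 : p₂.Prime)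
    (d1 : (p₁ : ℤ) ∣ 3 * (3 ^ j) ^ 2 + 3 * 3 ^ j + 1) (d2 : (p₂ : ℤ) ∣ 3 * (-3 ^ j) ^ 2 + 3 * (-3 ^ j) + 1) {x : G}
    (ho : ¬ 2 ∣ orderOf x) (x1 : p₁ ∣ orderOf x) (x2 : p₂ ∣ orderOf x) : False := by
  have oF : Odd (Nat.card F) := hj ▸ Odd.pow (by decide)
  obtain ⟨e0⟩ := prod_equiv h.ht h.dp
  have e' := e0.trans ((MulEquiv.refl _).prodCongr e)
  have q1 : 1 < Nat.card F := Finite.one_lt_card
  obtain ⟨π, u, s, K, m, k, -⟩ := jr_of_psl h.no2 h.hab h.ht (by obtain ⟨k, hk⟩ := oF; omega) e'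
  obtain ⟨M, hM⟩ := exists_pMod 2
  obtain ⟨μ, A, B, C, hμ, hL, b⟩ := exists_blk3 M k.bsw k.card k.odd
  rcases k.cases hp h.hab b hμ hL oF e' with ⟨-, c5, -⟩ | ⟨m1, ⟨n, hn⟩, θ1, θ2, td⟩
  · rw [c5, pow_succ] at hj; omega
  have jd := k.jd hp b hμ hL
  obtain ⟨hi, a, b', c, d, f, _, _, on, -, e2, -, Da, -, -, Dd, -⟩ := jd.deg td hμ k.odd.natCast
    (by exact_mod_cast m1) ⟨3, n, Nat.prime_three, by simp [hn, Int.natAbs_pow]⟩ rfl rfl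
  have c0 := card_PSL2_mul (F := F)
  rw [gcd_two_pred_of_odd oF] at c0
  have hq := natAbs_eq (q := Nat.card F) hμ (by exact_mod_cast k.odd.pos) q1.le (by
    rw [← hL]; zify [q1.le] at c0; exact c0)
  have hQ : 1 + 2 * μ = -(3 * (3 ^ j) ^ 2) := by
    have : (0 : ℤ) < 3 ^ n := by positivity
    have e : ((3 ^ (2 * j + 1) : ℕ) : ℤ) = 3 * (3 ^ j) ^ 2 := by push_cast; ring
    rw [← e, ← hj, ← hq]; omega
  have hm : μ = -(2 * m) := by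
    have : (0 : ℤ) < 3 * (3 ^ j) ^ 2 := by positivity
    omega
  have hG : (Nat.card G : ℤ) = (1 + 2 * μ - 1) * (1 + 2 * μ + 1) * (1 + 2 * μ) ^ 3 * -((1 + 2 * μ) ^ 2 + (1 + 2 * μ) + 1) := by
    rw [← (C1[t]).card_mul_index, k.card_C]; push_cast; rw [hi, hL, hm]; ring
  have D2 := jd.D2
  simp only [e2, map_add, jd.Do, Da] at D2
  have v := k.al_odd (r := B) (g := x) ho
  rw [show al π B = _ from congrArg Subtype.val e2] at v
  have key : ∀ (ρ : ℤ) (p₁ p₂ : ℕ), p₁.Prime → p₂.Prime → (p₁ : ℤ) ∣ 3 * ρ ^ 2 + 3 * ρ + 1 →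
      (p₂ : ℤ) ∣ 3 * (-ρ) ^ 2 + 3 * (-ρ) + 1 → p₁ ∣ orderOf x → p₂ ∣ orderOf x → 1 + 2 * μ = -(3 * ρ ^ 2) →
      (cl k.tt).D d ≠ -(1 + μ) * ρ * (3 * ρ ^ 2 + 3 * ρ + 1) := fun ρ p₁ p₂ h1 h2 d1 d2 x1 x2 hQ Dd => by
    have Df : (cl k.tt).D f = (1 + μ) * ρ * (3 * ρ ^ 2 - 3 * ρ + 1) := by
      rw [Dd, hQ] at D2
      linear_combination D2 + 3 * ρ ^ 2 * hQ
    have va := cl_vanish (on.2 a (by simp)) h1 (k := -(27 * ρ ^ 6 * (3 * ρ ^ 2 + 1) * (3 * ρ ^ 2 - 1)))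
      (by rw [hG, Da, hQ]; ring) (by rw [dvd_neg]; exact (mix_ar h1 d1).2) x1
    have vd := cl_vanish (on.2 d (by simp)) h1 (k := 54 * ρ ^ 5 * (3 * ρ ^ 2 + 1) * (3 * ρ ^ 2 - 3 * ρ + 1))
      (by
        rw [hG, Dd, hQ]
        linear_combination (27 * ρ ^ 6 * (3 * ρ ^ 2 + 1) * (9 * ρ ^ 4 - 3 * ρ ^ 2 + 1)) * hQ) (mix_ar h1 d1).1 x1
    have vf := cl_vanish (on.2 f (by simp)) h2
      (k := 54 * (-ρ) ^ 5 * (3 * (-ρ) ^ 2 + 1) * (3 * (-ρ) ^ 2 - 3 * (-ρ) + 1))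
      (by
        rw [hG, Df, hQ]
        linear_combination (27 * ρ ^ 6 * (3 * ρ ^ 2 + 1) * (9 * ρ ^ 4 - 3 * ρ ^ 2 + 1)) * hQ) (mix_ar h2 d2).1 x2
    simp [va, vd, vf, oneV] at v
  generalize (3 : ℤ) ^ j = ρ at *
  have : ((cl k.tt).D d - -(1 + μ) * ρ * (3 * ρ ^ 2 + 3 * ρ + 1)) *
      ((cl k.tt).D d - -(1 + μ) * (-ρ) * (3 * (-ρ) ^ 2 + 3 * (-ρ) + 1)) = 0 := by
    rw [hQ] at D2 Dd
    refine mul_left_cancel₀ (show (3 : ℤ) ≠ 0 by norm_num) ?_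
    linear_combination 3 * (cl k.tt).D d * D2 - Dd + 9 * ρ ^ 2 * (cl k.tt).D d * hQ
  rcases mul_eq_zero.1 this with r | r
  · exact key ρ p₁ p₂ h1 h2 d1 d2 x1 x2 hQ (sub_eq_zero.1 r)
  · exact key (-ρ) p₂ p₁ h2 h1 d2 (by rwa [neg_neg]) x2 x1 (by rw [hQ]; ring) (sub_eq_zero.1 r)

end Cfsg.Agent.ReeW
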