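import Cfsg.Agent.ReeW.B
/-!
Groups of Ree type: the data `R0` (`q = 4k + 3`), the split torus `H` of order `q - 1` (`cH`, `invH`, `cenH`, `normH`).
-/

set_option autoImplicit false
set_option linter.unusedSectionVars false
set_option linter.unusedVariables false

namespace Cfsg.Agent.ReeW
open Subgroup MulAction Cfsg.Agent.BG Cfsg.Agent.GW Cfsg.Agent.Invol Cfsg.Agent.AB Cfsg.Agent.AB.E3 Cfsg.Agent.Classical
open Cfsg.Agent.S4272

/-- The data of a group of Ree type, `q = 4k + 3`. -/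
structure R0 {G : Type*} [Group G] (t : G) (L U B M W T : Subgroup G) (u s : L) (K : Subgroup L) (s0 σ : G) (k : ℕ) :
    Prop where
  h : WJ t L L u s K
  b : RB L U B
  loc : Loc t W T s0 σ
  hT : #T = k + 1
  q3 : ∃ a, 4 * k + 3 = 3 ^ a
  hB : #B = (4 * k + 3) * (2 * k + 1)
  hL : #L = (4 * k + 3) * (4 * k + 4) * (2 * k + 1)
  hG : Nat.card G = (4 * k + 3) ^ 3 * ((4 * k + 4) * (16 * k ^ 2 + 20 * k + 7)) * (4 * k + 2)
  idx : M.index = (4 * k + 3) ^ 3 + 1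
  two : IsMultiplyPretransitive G (G ⧸ M) 2
  tM : t ∈ M
  ML : M ⊓ L = B

theorem cop_of {a b : ℕ} (x y : ℕ) (h : a * x = b * y + 1 ∨ b * y = a * x + 1) : a.Coprime b := by
  refine Nat.coprime_of_dvd fun p hp ha hb => hp.not_dvd_one ?_
  rcases h with h | h
  · exact (Nat.dvd_add_right (hb.mul_right y)).1 (h ▸ ha.mul_right x)
  · exact (Nat.dvd_add_right (ha.mul_right x)).1 (h ▸ hb.mul_right y)

theorem exists_prime_pow {G : Type*} [Group G] [Finite G] {x : G} {p : ℕ} (hp : p ∣ orderOf x) :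
    ∃ i, orderOf (x ^ i) = p := ⟨_, orderOf_pow_orderOf_div (orderOf_pos x).ne' hp⟩

theorem C1_le_pow {G : Type*} [Group G] (x : G) (i : ℕ) : C1[x] ≤ C1[x ^ i] :=
  fun y hy => mem_C1.2 ((mem_C1.1 hy).pow_right i)

namespace R0
variable {G : Type*} [Group G] [Finite G] {t s0 σ a b x y z g : G} {L U B M W T : Subgroup G} {u s : L} {K : Subgroup L}
  {k : ℕ} (r : R0 t L U B M W T u s K s0 σ k)

local notation "qq" => 4 * k + 3
local notation "cc" => 2 * k + 1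
local notation "mm" => k + 1
local notation "nn" => 16 * k ^ 2 + 20 * k + 7
local notation "HH" => M ⊓ cj (u : G) M
local notation "H0" => B ⊓ cj (u : G) B

theorem mc : (mm).Coprime cc := cop_of 2 1 (.inl (by ring))
theorem mq : (mm).Coprime qq := cop_of 4 1 (.inl (by ring))
theorem cq : (cc).Coprime qq := cop_of 2 1 (.inr (by ring))
theorem c2 : (cc).Coprime 2 := cop_of 1 k (.inl (by ring))
theorem nq : (nn).Coprime qq := cop_of 1 (4 * k + 2) (.inl (by ring))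
theorem nc : (nn).Coprime cc := cop_of 1 (8 * k + 6) (.inl (by ring))
theorem n2 : (nn).Coprime 2 := cop_of 1 (8 * k ^ 2 + 10 * k + 3) (.inl (by ring))
theorem c4m : (cc).Coprime (4 * mm) := Nat.Coprime.mul_right (c2.pow_right 2) mc.symm

include r

theorem q3' : 3 ∣ qq := by
  obtain ⟨a, ha⟩ := r.q3
  rcases a with _ | a
  · omega
  · rw [ha]; exact dvd_pow_self 3 (by omega)
theorem eq3 {p : ℕ} (hp : p.Prime) (h : p ∣ qq) : p = 3 := by
  obtain ⟨a, ha⟩ := r.q3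
  exact (Nat.prime_dvd_prime_iff_eq hp Nat.prime_three).1 (hp.dvd_of_dvd_pow (ha ▸ h))
theorem m2 : (mm).Coprime 2 := r.hT ▸ r.loc.oddT.coprime_two_right
theorem nm : (nn).Coprime mm := Nat.coprime_of_dvd fun p hp h1 h2 => by
  have : p ∣ 3 := (Nat.dvd_add_right (h2.mul_right (16 * k + 4))).1 (by convert h1 using 1; ring)
  obtain rfl := (Nat.prime_dvd_prime_iff_eq hp Nat.prime_three).1 this
  have := r.q3'; omega

theorem cC (ha : orderOf a = 2) : #C1[a] = 2 * (qq * (4 * k + 4) * cc) := by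
  obtain ⟨g, rfl⟩ := isConj_iff.1 (r.h.cls ha)
  rw [C1_conj, card_cj, ← r.h.dp.sdprod.card, Nat.card_zpowers, r.h.ht, r.hL]

theorem cM : #M = qq ^ 3 * (2 * cc) := by
  refine Nat.eq_of_mul_eq_mul_right (show 0 < M.index by rw [r.idx]; omega) ?_
  rw [card_mul_index, r.hG, r.idx]; ring

theorem four (ha : orderOf a = 2) (hb : orderOf b = 2) (ab : a ≠ b) (hc : b ∈ C1[a]) :
    ∃ g, cj g (C1[a] ⊓ C1[b]) ≤ C[W] := by
  obtain ⟨g, h1, h2⟩ := r.loc.four a b ha hb ab hc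
  refine ⟨g, ?_⟩
  rw [cj_inf, ← C1_conj, ← C1_conj]
  intro x hx
  rw [← le_cent1_iff, ← inf_eq_left]
  have d : #(W ⊓ C1[x]) ∣ 4 := r.loc.cardW ▸ cardSg inf_le_left
  have l : 3 ≤ #(W ⊓ C1[x]) := by
    have := Set.ncard_le_ncard (s := {1, g * a * g⁻¹, g * b * g⁻¹}) (t := ((W ⊓ C1[x] : Subgroup G) : Set G)) (by
      rintro _ (rfl | rfl | rfl)
      exacts [one_mem _, ⟨h1, mem_cent1_comm.1 hx.1⟩, ⟨h2, mem_cent1_comm.1 hx.2⟩])
    rwa [Set.ncard_eq_three.2 ⟨_, _, _, (conj_ne_one.2 (orderOf_two_iff.1 ha).2).symm,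
      (conj_ne_one.2 (orderOf_two_iff.1 hb).2).symm, by simpa using ab, rfl⟩] at this
  refine eq_of_card_le inf_le_left ?_
  rw [r.loc.cardW]
  have := Nat.le_of_dvd (by decide) d
  generalize #(W ⊓ C1[x]) = e at *
  interval_cases e <;> omega

theorem four_odd (ha : orderOf a = 2) (hb : orderOf b = 2) (ab : a ≠ b) (hc : b ∈ C1[a]) (h1 : x ∈ C1[a])
    (h2 : x ∈ C1[b]) (ho : Odd (orderOf x)) : orderOf x ∣ mm := by
  obtain ⟨g, hg⟩ := r.four ha hb ab hc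
  rw [← BG.orderOf_conj' g] at ho ⊢
  exact r.hT ▸ orderOf_dvd_cardG (r.loc.toTor.mem_T (hg (conj_mem_cj g ⟨h1, h2⟩)) ho)

theorem four_card (ha : orderOf a = 2) (hb : orderOf b = 2) (ab : a ≠ b) (hc : b ∈ C1[a]) :
    #(C1[a] ⊓ C1[b]) ≤ 8 * mm := by
  obtain ⟨g, hg⟩ := r.four ha hb ab hc
  have := card_le_card hg
  rw [card_cj, r.loc.toTor.card_C, r.loc.toTor.card, r.hT] at this
  omega

theorem cenT (hy : y ∈ T) (y1 : y ≠ 1) : C1[y] = W ⊔ T :=
  r.loc.toTor.cent_eq (fun y hy y1 => r.loc.cent_le hy y1) hy y1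

theorem conjT (hp : (orderOf z).Prime) (h : orderOf z ∣ mm) : ∃ g, g * z * g⁻¹ ∈ T := by
  refine exists_conj_mem_of_prime hp fun e => ?_
  have := T.card_mul_index
  rw [r.hT, r.hG, show qq ^ 3 * ((4 * k + 4) * nn) * (4 * k + 2) = mm * (qq ^ 3 * (nn * (cc * 2 ^ 3))) by ring,
    Nat.mul_right_inj (by omega)] at this
  exact hp.one_lt.ne' (Nat.eq_one_of_dvd_coprimes ((mq.pow_right 3).mul_right (r.nm.symm.mul_right
    (mc.mul_right (r.m2.pow_right 3)))) h (this ▸ e))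

theorem cT (x1 : x ≠ 1) (h : orderOf x ∣ mm) : #C1[x] ∣ 4 * mm := by
  obtain ⟨p, hp, hd⟩ := Nat.exists_prime_and_dvd (mt orderOf_eq_one_iff.1 x1)
  obtain ⟨i, rfl⟩ := exists_prime_pow hd
  obtain ⟨g, hg⟩ := r.conjT hp (hd.trans h)
  refine (cardSg (C1_le_pow x i)).trans ?_
  rw [← card_cj g, ← C1_conj, r.cenT hg (conj_ne_one.2 fun e => hp.ne_one (by simp [e])), r.loc.toTor.card, r.hT]

theorem eq_one (h : orderOf y ∣ cc) (x1 : x ≠ 1) (h' : orderOf x ∣ mm) (hc : y ∈ C1[x]) : y = 1 :=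
  orderOf_eq_one_iff.1 (Nat.eq_one_of_dvd_coprimes c4m h ((orderOf_dvd_cardG hc).trans (r.cT x1 h')))

theorem ww : (u : G) * u = 1 := (orderOf_two_iff.1 r.h.u2).1
theorem wt : (u : G) ∈ C1[t] := r.h.LC u.2
theorem tw : t ≠ u := fun e => r.h.tE (e ▸ u.2)
theorem wM : (u : G) ∉ M := fun e => (orderOf_two_iff.1 r.h.u2).2 (r.b.nB r.h (r.ML.le ⟨e, u.2⟩) r.ww)
theorem cjL : cj (u : G) L = L := BG.mem_norm.1 (normG L u.2)
theorem wN (A : Subgroup G) : (u : G) ∈ N[A ⊓ cj (u : G) A] :=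
  BG.mem_norm.2 (by rw [cj_inf, ← cj_mul, r.ww, cj_one, inf_comm])

theorem cH : #HH = 2 * cc := by
  have := two_card r.two r.wM
  rw [r.idx, r.cM, Nat.add_sub_cancel, mul_comm] at this
  exact Nat.eq_of_mul_eq_mul_left (by positivity) this

theorem tH : t ∈ HH := ⟨r.tM, mem_cj.2 (by
  rw [mul_assoc, ← mem_cent1.1 r.wt, inv_mul_cancel_left]; exact r.tM)⟩

theorem HL : HH ⊓ L = H0 := by
  rw [← r.ML, cj_inf, r.cjL]; exact le_antisymm (fun x hx => ⟨⟨hx.1.1, hx.2⟩, hx.1.2, hx.2⟩)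
    fun x hx => ⟨⟨hx.1.1, hx.2.1⟩, hx.1.2⟩

theorem H0H : H0 ≤ HH := r.HL ▸ inf_le_left
theorem H0L : H0 ≤ L := r.HL ▸ inf_le_right

theorem cH0 : #H0 = cc := by
  have o : Odd #H0 := oddSg inf_le_left r.b.oB
  obtain ⟨j, hj⟩ : #H0 ∣ cc := o.coprime_two_right.dvd_of_dvd_mul_left (r.cH ▸ cardSg r.H0H)
  have e1 : B.relIndex L = 4 * k + 4 := by
    have := card_mul_relIndex r.b.BL
    rw [r.hB, r.hL, mul_right_comm qq (4 * k + 4)] at this
    exact Nat.eq_of_mul_eq_mul_left (Nat.mul_pos (by omega) (by omega)) this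
  have e2 : (cj (u : G) B).relIndex L = 4 * k + 4 := by
    have := relIndex_cj (u : G) B L
    rwa [r.cjL, e1] at this
  have l := relIndex_inf_le (H := B) (K := cj (u : G) B) (L := L)
  have c := card_mul_relIndex r.H0L
  rw [e1, e2] at l
  have := Nat.mul_le_mul_left #H0 l
  rw [c, r.hL, hj, show qq * (4 * k + 4) * (#H0 * j) = #H0 * ((4 * k + 4) * (qq * j)) by ring] at this
  have := Nat.le_of_mul_le_mul_left (Nat.le_of_mul_le_mul_left this (cardG_pos _)) (by omega)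
  obtain rfl : j = 1 := by
    rcases j with _ | _ | j
    · omega
    · rfl
    · nlinarith
  omega

theorem Ht : HH ≤ C1[t] := by
  rw [← inf_eq_left]
  refine eq_of_card_le inf_le_left (Nat.le_of_dvd (cardG_pos _) ?_)
  rw [r.cH]
  exact c2.symm.mul_dvd_of_dvd_of_dvd (r.h.ht ▸ orderOf_dvd_cardG ⟨r.tH, cent1_self t⟩)
    (r.cH0 ▸ cardSg (le_inf r.H0H (r.H0L.trans r.h.LC)))

theorem memH (hy : y ∈ HH) : y ∈ H0 ∨ t * y ∈ H0 :=
  (r.h.mem (r.Ht hy)).imp (fun e => r.HL.le ⟨hy, e⟩) fun e => r.HL.le ⟨mul_mem r.tH hy, e⟩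

theorem oH0 (hy : y ∈ H0) : orderOf y ∣ cc := r.cH0 ▸ orderOf_dvd_cardG hy
theorem odd0 : Odd #H0 := oddSg inf_le_left r.b.oB

theorem inv0 : ∀ y ∈ H0, Inv (u : G) y := by
  refine inv_of_cent_bot r.odd0 r.ww (r.wN B) ((eq_bot_iff_forall _).2 fun x hx => ?_)
  exact orderOf_eq_one_iff.1 (Nat.eq_one_of_dvd_coprimes mc (r.four_odd r.h.ht r.h.u2 r.tw r.wt
    (r.Ht (r.H0H hx.1)) hx.2 (odd_of_mem r.odd0 hx.1)) (r.oH0 hx.1))

theorem invH : ∀ y ∈ HH, Inv (u : G) y := fun y hy => by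
  rcases r.memH hy with e | e
  · exact r.inv0 y e
  have i : Inv (u : G) t := by rw [GW.Inv, mem_cent1.1 r.wt, mul_inv_cancel_right, inv_eq_of_mul_eq_one_left r.h.tt]
  have := i.mul (r.inv0 _ e) (mem_C1.1 (r.Ht (r.H0H e))).symm
  rwa [← mul_assoc, r.h.tt, one_mul] at this

theorem sqH (hy : y ∈ HH) : y * y ∈ H0 := by
  rcases r.memH hy with e | e
  · exact mul_mem e e
  have := mul_mem e e
  rwa [mul_assoc, ← mul_assoc y, mem_cent1.1 (r.Ht hy), mul_assoc, ← mul_assoc, r.h.tt, one_mul] at this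

theorem commH (hy : y ∈ HH) : HH ≤ C1[y] := le_cent1_iff.2 ((abelian_of_inv r.invH).cent hy)

theorem idxH {p : ℕ} (hp : p.Prime) (h : p ∣ cc) : ¬ p ∣ (H0).index := fun e => by
  have := (H0).card_mul_index
  rw [r.cH0, r.hG, show qq ^ 3 * ((4 * k + 4) * nn) * (4 * k + 2) = cc * (qq ^ 3 * (nn * (mm * 2 ^ 3))) by ring,
    Nat.mul_right_inj (by omega)] at this
  exact hp.one_lt.ne' (Nat.eq_one_of_dvd_coprimes ((cq.pow_right 3).mul_right (nc.symm.mul_right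
    (mc.symm.mul_right (c2.pow_right 3)))) h (this ▸ e))

theorem cases2 {p : ℕ} (hp : p.Prime) (ha : orderOf a = 2) (h : p ∣ #C1[a]) : p = 2 ∨ p = 3 ∨ p ∣ mm ∨ p ∣ cc := by
  rw [r.cC ha, show 2 * (qq * (4 * k + 4) * cc) = 2 ^ 3 * (qq * (mm * cc)) by ring, hp.dvd_mul, hp.dvd_mul,
    hp.dvd_mul] at h
  exact h.imp (fun e => (Nat.prime_dvd_prime_iff_eq hp Nat.prime_two).1 (hp.dvd_of_dvd_pow e)) (Or.imp_left (r.eq3 hp))

theorem cen0 (hy : y ∈ H0) (y1 : y ≠ 1) : C1[y] = HH := by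
  have tC : t ∈ C1[y] := r.commH (r.H0H hy) r.tH
  have oy := r.oH0 hy
  have o : Odd #(C1[y] ⊓ L) := by
    by_contra e
    obtain ⟨a, ha, a2⟩ := Cauchy Nat.prime_two (even_iff_two_dvd.1 (Nat.not_odd_iff_even.1 e))
    exact y1 (orderOf_eq_one_iff.1 (Nat.eq_one_of_dvd_coprimes mc (r.four_odd r.h.ht a2 (fun e => r.h.tE (e ▸ ha.2))
      (r.h.LC ha.2) (mem_cent1_comm.1 tC) (mem_cent1_comm.1 ha.1) (odd_of_mem r.odd0 hy)) oy))
  obtain ⟨sd, eC⟩ := shape r.h tC o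
  set O := Op' 2 C1[y]
  have oO : Odd #O := odd_Op' _
  have OC : O ≤ C1[y] := sd.lel
  have tO : t ∈ N[O] := zpowers_le.1 sd.norm
  have H0O : H0 ≤ O := (le_inf (r.H0H.trans (r.commH (r.H0H hy))) r.H0L).trans (eC.ge.trans inf_le_left)
  have key : ∀ v, orderOf v = 2 → t ≠ v → v ∈ C1[t] → Inv v y → ∀ x ∈ O, Inv v x := fun v v2 tv vt iv => by
    obtain ⟨vv, v1⟩ := orderOf_two_iff.1 v2
    have vO : v ∈ N[O] := zpowers_le.1 (norms_pcore _ (zpowers_le.2 (BSW.norm_of_inverts iv)))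
    refine inv_of_cent_bot oO vv vO (by_contra fun ne => ?_)
    have it := inv_of_cent_bot (oddSg (inf_le_left (b := C1[v])) oO) r.h.tt
      (mem_normI tO (norm_C1' (mem_cent1_comm.1 vt))) ((eq_bot_iff_forall _).2 fun x hx => by_contra fun x1 =>
        y1 (r.eq_one oy x1 (r.four_odd r.h.ht v2 tv vt hx.2 hx.1.2 (odd_of_mem oO hx.1.1))
          (mem_cent1_comm.1 (OC hx.1.1))))
    obtain ⟨p, hp, hd⟩ := Nat.exists_prime_and_dvd (mt card_eq_one.1 ne)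
    obtain ⟨z, hz, rfl⟩ := Cauchy hp hd
    have z1 : z ≠ 1 := fun e => hp.ne_one (by simp [e])
    have oz := odd_of_mem oO hz.1
    rcases r.cases2 hp v2 (orderOf_dvd_cardG hz.2) with e | e | e | e
    · rw [e] at oz; exact absurd oz (by decide)
    · exact r.b.key r.h vv v1 vt hz.2 e (it z hz)
    · exact y1 (r.eq_one oy z1 e (mem_cent1_comm.1 (OC hz.1)))
    have := Fact.mk hp
    obtain ⟨R, hR⟩ := Sylow_exists (orderOf z) H0
    have hR' : SylowIn (orderOf z) R O := pHall_trans_idx hR H0O ((p'natE hp).2 fun e' =>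
      r.idxH hp e (e'.trans (relIndex_dvd_index_of_le H0O)))
    obtain ⟨g, hg, le⟩ := Sylow_Jsub hR' (zpowers_le.2 hz.1) (IsPGroup.of_card (n := 1) (by simp))
    have c : g * z * g⁻¹ ∈ C1[t] := r.Ht (r.H0H (hR.le (le (conj_mem_cj g (mem_zpowers z)))))
    have i := ((it z hz).conj g).mul_left (mem_C1.1 c).symm
    have m : t * (g * t * g⁻¹) ∈ O := by
      have := mul_mem (conj_mem_of_norm tO hg) (inv_mem hg)
      rwa [inv_eq_of_mul_eq_one_left r.h.tt, mul_assoc, mul_assoc, ← mul_assoc g] at this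
    refine z1 (conj_eq_one_iff.1 (i.eq_one (mem_C1.1 (GW.mem_of_sq_mem (odd_of_mem oO m) (mem_C1.2 (i.commute_mul i))))
      (by rwa [BG.orderOf_conj'])))
  have i1 := key u r.h.u2 r.tw r.wt (r.inv0 y hy)
  have i2 := key (t * u) (orderOf_two_iff.2 ⟨by
      rw [mul_assoc, ← mul_assoc (u : G), mem_cent1.1 r.wt, mul_assoc, r.ww, mul_one, r.h.tt],
      fun e => r.h.tE (by rw [eq_inv_of_mul_eq_one_left e]; exact inv_mem u.2)⟩)
    (fun e => (orderOf_two_iff.1 r.h.u2).2 (by simpa using e)) (mul_mem (cent1_self t) r.wt)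
    ((r.inv0 y hy).mul_left (mem_C1.1 tC))
  have Ot : O ≤ C1[t] := fun x hx => by
    have := (i1 x hx).commute_mul (i2 x hx)
    rw [mul_assoc, r.ww, mul_one] at this
    exact mem_C1.2 this.symm
  have d : #O ∣ cc := by
    refine Nat.Coprime.dvd_of_dvd_mul_left (m := 2 * (qq * (4 * k + 4))) (Nat.coprime_of_dvd fun p hp h1 h2 => ?_)
      (by rw [mul_assoc, ← r.cC r.h.ht]; exact cardSg Ot)
    obtain ⟨z, hz, rfl⟩ := Cauchy hp h1
    have z1 : z ≠ 1 := fun e => hp.ne_one (by simp [e])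
    have oz := odd_of_mem oO hz
    rw [show 2 * (qq * (4 * k + 4)) = 2 ^ 3 * (qq * mm) by ring, hp.dvd_mul, hp.dvd_mul] at h2
    rcases h2 with e | e | e
    · exact hp.one_lt.ne' (Nat.eq_one_of_dvd_coprimes (oz.coprime_two_right.pow_right 3) dvd_rfl e)
    · obtain ⟨i, hi⟩ := IsPGroup.iff_orderOf.1 (r.b.cen z (r.h.odd_mem (Ot hz) oz) (r.eq3 hp e))
        ⟨y, r.H0L hy, mem_cent1_comm.1 (OC hz)⟩
      rw [← orderOf_coe] at hi
      exact y1 (orderOf_eq_one_iff.1 (Nat.eq_one_of_dvd_coprimes ((cq.coprime_dvd_right r.q3').pow_right i) oy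
        (dvd_of_eq hi)))
    · exact y1 (r.eq_one oy z1 e (mem_cent1_comm.1 (OC hz)))
  refine (eq_of_card_le (r.commH (r.H0H hy)) ?_).symm
  have := Nat.le_of_dvd (by omega) d
  rw [← sd.card, Nat.card_zpowers, r.h.ht, r.cH]; omega

theorem cenH (hy : y ∈ HH) (y1 : y * y ≠ 1) : C1[y] = HH :=
  le_antisymm ((r.cen0 (r.sqH hy) y1).symm ▸ pow_two y ▸ C1_le_pow y 2) (r.commH hy)

end R0
end Cfsg.Agent.ReeW
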