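import Cfsg.Agent.ReeW.C
/-!
Groups of Ree type: the normaliser of the split torus (`normH`), involution counts (`nI`, `pt`), the classification of
elements (`cases`, `cop`).
-/

set_option autoImplicit false
set_option linter.unusedSectionVars false
set_option linter.unusedVariables false

namespace Cfsg.Agent.ReeW
open Subgroup MulAction Cfsg.Agent.BG Cfsg.Agent.GW Cfsg.Agent.Invol Cfsg.Agent.AB Cfsg.Agent.AB.E3 Cfsg.Agent.Classical
open Cfsg.Agent.S4272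
open scoped _root_.Classical

theorem ncard_class {G : Type*} [Group G] [Finite G] (a : G) (D : Subgroup G) :
    (classSupp {a} D).ncard * #(D ⊓ C1[a]) = #D := by
  have := ncard_classSupp_mul (A := {a}) (D := D) (n := #(D ⊓ C1[a])) (by
    rintro b rfl
    rw [show {g | g ∈ D ∧ g * b * g⁻¹ ∈ ({b} : Set G)} = ((D ⊓ C1[b] : Subgroup G) : Set G) from
      Set.ext fun g => by simp [mem_cent1, mul_inv_eq_iff_eq_mul]]
    rfl)
  rwa [Set.ncard_singleton, one_mul] at this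

theorem smul_coe_iff {G : Type*} [Group G] {M : Subgroup G} {g x : G} :
    g • (x : G ⧸ M) = x ↔ x⁻¹ * g * x ∈ M := by
  rw [MulAction.Quotient.smul_coe, eq_comm, QuotientGroup.eq, smul_eq_mul, mul_assoc]

theorem sum_ind {G : Type*} [Fintype G] (S : Set G) (c : ℕ) : ∑ g, (if g ∈ S then c else 0) = S.ncard * c := by
  rw [← Finset.sum_filter, Finset.sum_const, smul_eq_mul, ← Set.ncard_coe_finset]
  congr 2; ext; simp

namespace R0
variable {G : Type*} [Group G] [Fintype G] {t s0 σ a b x y z g : G} {L U B M W T : Subgroup G} {u s : L} {K : Subgroup L}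
  {k : ℕ} (r : R0 t L U B M W T u s K s0 σ k)

local notation "qq" => 4 * k + 3
local notation "cc" => 2 * k + 1
local notation "mm" => k + 1
local notation "nn" => 16 * k ^ 2 + 20 * k + 7
local notation "HH" => M ⊓ cj (u : G) M
local notation "H0" => B ⊓ cj (u : G) B

include r

theorem invol (hy : y ∈ HH) (yy : y * y = 1) : y = 1 ∨ y = t := by
  refine (r.memH hy).imp (fun e => GW.eq_one_of_odd_sq (odd_of_mem r.odd0 e) yy) fun e => ?_
  have := GW.eq_one_of_odd_sq (odd_of_mem r.odd0 e) (by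
    rw [mul_assoc, ← mul_assoc y, mem_cent1.1 (r.Ht hy), mul_assoc, yy, mul_one, r.h.tt])
  rw [eq_inv_of_mul_eq_one_right this, inv_eq_of_mul_eq_one_left r.h.tt]

theorem NHt : N[HH] ≤ C1[t] := fun g hg => by
  rcases r.invol (conj_mem_of_norm hg r.tH) (by rw [conj_mul, r.h.tt]; group) with e | e
  · exact absurd (conj_eq_one_iff.1 e) (orderOf_two_iff.1 r.h.ht).2
  · exact mem_cent1.2 (mul_inv_eq_iff_eq_mul.1 e)

theorem cMt : #(M ⊓ C1[t]) = qq * (2 * cc) := by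
  have := (sdprod_modl r.h.dp.sdprod (zpowers_le.2 r.tM)).card
  rw [Nat.card_zpowers, r.h.ht, r.ML, r.hB] at this
  rw [← this]; ring

theorem NM (k0 : 0 < k) : M ⊓ N[HH] = HH := by
  have le : HH ≤ M ⊓ N[HH] := le_inf inf_le_left (normG _)
  refine (eq_of_card_le le (Nat.le_of_dvd (cardG_pos _) ?_)).symm
  rw [r.cH]
  refine Nat.Coprime.dvd_of_dvd_mul_left (m := qq) (Nat.coprime_of_dvd fun p hp h1 h2 => ?_)
    (r.cMt ▸ cardSg (inf_le_inf_left _ r.NHt))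
  obtain rfl := r.eq3 hp h2
  obtain ⟨z, hz, z3⟩ := Cauchy hp h1
  have zL := r.h.odd_mem (r.NHt hz.2) (by rw [z3]; decide)
  obtain ⟨p, hp', hd⟩ := Nat.exists_prime_and_dvd (show cc ≠ 1 by omega)
  obtain ⟨y, hy, e⟩ := Cauchy hp' (r.cH0.symm ▸ hd)
  have y1 : y ≠ 1 := fun e' => hp'.ne_one (by simp [← e, e'])
  have yH := r.H0H hy
  have i1 := r.invH _ (conj_mem_of_norm' hz.2 yH)
  have i2 := (r.invH y yH).conj z⁻¹
  rw [inv_inv] at i2
  have c := i1.commute_mul i2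
  have c' : z⁻¹ * u * z * u ∈ cj z⁻¹ C1[y] := by rw [← C1_conj, inv_inv]; exact mem_C1.2 c
  rw [r.cen0 hy y1, BG.mem_norm.1 (inv_mem hz.2)] at c'
  refine r.wM (r.ML.ge (r.b.ti u u.2 z (r.ML.le ⟨hz.1, zL⟩) z3 (r.ML.le ⟨?_, L.mul_mem (L.mul_mem u.2 zL) (L.inv_mem u.2)⟩))).1
  have := mul_mem hz.1 c'.1
  rwa [inv_eq_of_mul_eq_one_left r.ww, show (u : G) * z * u = z * (z⁻¹ * u * z * u) by group]

theorem normH (k0 : 0 < k) : #N[HH] ≤ 2 * #HH := by
  have ne : ∀ g ∉ M, ((1 : G) : G ⧸ M) ≠ g := fun g hg e => hg (by simpa using QuotientGroup.eq.1 e)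
  have sub : (N[HH] : Set G) ⊆ (HH : Subgroup G) ∪ (fun x => (u : G) * x) '' (HH : Subgroup G) := fun g hg => by
    by_cases gM : g ∈ M
    · exact .inl ((r.NM k0).le ⟨gM, hg⟩)
    obtain ⟨a, h1, h2⟩ := is_two_pretransitive_iff.1 r.two (ne _ r.wM) (ne g gM)
    have aM : a ∈ M := by simpa using smul_coe_iff.1 h1
    have e : g⁻¹ * (a * u) ∈ M := QuotientGroup.eq.1 h2.symm
    have le : HH ≤ cj a HH := by
      rw [cj_inf, ← cj_mul, BG.mem_norm.1 (normG M aM), show a * u = g * (g⁻¹ * (a * u)) by group, cj_mul,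
        BG.mem_norm.1 (normG M e)]
      exact le_inf inf_le_left ((BG.mem_norm.1 hg).ge.trans (cj_mono g inf_le_left))
    have aH : a ∈ HH := (r.NM k0).le ⟨aM, BG.mem_norm.2 (eq_of_card_le le (by rw [card_cj])).symm⟩
    have uN := r.wN M
    have e2 : g⁻¹ * (a * u) ∈ HH := (r.NM k0).le ⟨e, Subgroup.mul_mem _ (Subgroup.inv_mem _ hg) (Subgroup.mul_mem _ (normG _ aH) uN)⟩
    exact .inr ⟨_, mul_mem (conj_mem_of_norm' uN aH) (inv_mem e2), by simp only; group⟩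
  refine (Set.ncard_le_ncard sub).trans ((Set.ncard_union_le _ _).trans ?_)
  rw [Set.ncard_image_of_injective _ (mul_right_injective _), two_mul]; rfl

theorem cls_iff : IsConj t x ↔ orderOf x = 2 :=
  ⟨fun h => by obtain ⟨g, rfl⟩ := isConj_iff.1 h; rw [BG.orderOf_conj', r.h.ht], r.h.cls⟩

theorem nI : ((cI t).filter fun v => v • ((1 : G) : G ⧸ M) = ((1 : G) : G ⧸ M)).card = qq ^ 2 := by
  have c := ncard_class t M
  rw [r.cMt, r.cM, pow_succ, mul_assoc, Nat.mul_left_inj (by positivity)] at c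
  rw [← c, ← Set.ncard_coe_finset]
  congr 1
  ext v
  simp only [Finset.coe_filter, mem_cI, smul_coe_iff, inv_one, one_mul, mul_one, Set.mem_ofPred_eq]
  refine ⟨fun ⟨h1, h2⟩ => ?_, ?_⟩
  · obtain ⟨sd, -⟩ := shape r.h r.tM (r.ML.symm ▸ r.b.oB)
    have S : SylowIn 2 (zpowers t) M := pHall_of_compl sd.compl.symm (pg_invol r.h.tt).pi (pcore_pgroup _ _)
    obtain ⟨vv, v1⟩ := orderOf_two_iff.1 (r.cls_iff.1 h1)
    obtain ⟨g, hg, le⟩ := Sylow_Jsub S (zpowers_le.2 h2) (pg_invol vv)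
    rcases (mem_zpowers_invol r.h.tt).1 (le (conj_mem_cj g (mem_zpowers v))) with e | e
    · exact absurd (conj_eq_one_iff.1 e) v1
    · exact ⟨g⁻¹, inv_mem hg, t, rfl, by rw [← e]; group⟩
  · rintro ⟨g, hg, _, rfl, rfl⟩
    exact ⟨isConj_iff.2 ⟨g, rfl⟩, mul_mem (mul_mem hg r.tM) (inv_mem hg)⟩

theorem pt : qq * (2 * cc) ≤ pcN t t t := by
  have nL : ∀ g ∈ C1[t], ∀ a ∈ L, g * a * g⁻¹ ∈ L := fun g hg a ha =>
    conj_mem_of_norm (r.h.dp.symm.sdprod.normal.2 hg) ha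
  have key : ∀ a, orderOf a = 2 → t ≠ a → a ∈ C1[t] → qq * cc ≤ (classSupp {a} C1[t]).ncard ∧
      classSupp {a} C1[t] ⊆ {v | IsConj t v ∧ IsConj t (v⁻¹ * t)} := fun a a2 ta ha => by
    constructor
    · have c := ncard_class a C1[t]
      have := Nat.mul_le_mul_left (classSupp {a} C1[t]).ncard (r.four_card r.h.ht a2 ta ha)
      rw [c, r.cC r.h.ht, show 2 * (qq * (4 * k + 4) * cc) = qq * cc * (8 * mm) by ring] at this
      exact Nat.le_of_mul_le_mul_right this (by omega)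
    rintro _ ⟨g, hg, a', e', rfl⟩
    obtain rfl : a = a' := e'.symm
    refine ⟨r.cls_iff.2 (by rwa [BG.orderOf_conj']), r.cls_iff.2 ?_⟩
    obtain ⟨aa, -⟩ := orderOf_two_iff.1 a2
    rw [show (g * a * g⁻¹)⁻¹ * t = g * (a⁻¹ * (g⁻¹ * t * g)) * g⁻¹ by group, BG.orderOf_conj', mul_assoc,
      ← mem_cent1.1 hg, inv_mul_cancel_left, inv_eq_of_mul_eq_one_left aa]
    exact orderOf_two_iff.2 ⟨by rw [mul_assoc, ← mul_assoc t, ← mem_cent1.1 ha, mul_assoc, r.h.tt, mul_one, aa],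
      fun e => ta (by rw [eq_inv_of_mul_eq_one_right e, inv_eq_of_mul_eq_one_left aa])⟩
  obtain ⟨a1, b1⟩ := key u r.h.u2 r.tw r.wt
  obtain ⟨a2, b2⟩ := key (t * u) (orderOf_two_iff.2 ⟨by
      rw [mul_assoc, ← mul_assoc (u : G), mem_cent1.1 r.wt, mul_assoc, r.ww, mul_one, r.h.tt],
      fun e => r.h.tE (by rw [eq_inv_of_mul_eq_one_left e]; exact inv_mem u.2)⟩)
    (fun e => (orderOf_two_iff.1 r.h.u2).2 (by simpa using e)) (mul_mem (cent1_self t) r.wt)
  have := Set.ncard_le_ncard (Set.union_subset b1 b2)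
  rw [Set.ncard_union_eq (Set.disjoint_left.2 ?_)] at this
  · rw [pcN, mul_left_comm]; omega
  rintro _ ⟨g, hg, _, rfl, rfl⟩ ⟨g', hg', _, rfl, e⟩
  have := nL _ (inv_mem hg') _ (nL g hg _ u.2)
  rw [e, show g'⁻¹ * (g' * (t * u) * g'⁻¹) * g'⁻¹⁻¹ = t * u by group] at this
  exact r.h.tE ((mul_mem_cancel_right u.2).1 this)

theorem fx_pos (h : x⁻¹ * g * x ∈ M) : 0 < fx (G ⧸ M) g :=
  Finset.card_pos.2 ⟨x, by simpa using smul_coe_iff.2 h⟩

theorem three (z3 : orderOf z = 3) : ∃ x, ∀ g ∈ C1[z], x⁻¹ * g * x ∈ M := by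
  obtain ⟨x, hx⟩ := exists_conj_mem_of_prime (H := M) (y := z) (z3 ▸ Nat.prime_three) (by
    rw [z3, r.idx]
    have := r.q3'.trans (dvd_pow_self qq (show 3 ≠ 0 by decide))
    omega)
  refine ⟨x⁻¹, fun g hg => by_contra fun ne => ?_⟩
  rw [inv_inv] at ne
  have c := two_card r.two ne
  rw [r.idx, r.cM, Nat.add_sub_cancel, mul_comm, Nat.mul_right_inj (by positivity)] at c
  have := orderOf_dvd_cardG (show x * z * x⁻¹ ∈ M ⊓ cj (x * g * x⁻¹) M from ⟨hx, mem_cj.2 (by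
    rw [show (x * g * x⁻¹)⁻¹ * (x * z * x⁻¹) * (x * g * x⁻¹) = x * (g⁻¹ * (z * g)) * x⁻¹ by group, ← mem_cent1.1 hg,
      inv_mul_cancel_left]; exact hx)⟩)
  rw [BG.orderOf_conj', z3, c] at this
  have := r.q3'; omega

theorem prime_cases {p : ℕ} (hp : p.Prime) (h : p ∣ Nat.card G) : p = 2 ∨ p = 3 ∨ p ∣ mm ∨ p ∣ cc ∨ p ∣ nn := by
  rw [r.hG, show qq ^ 3 * ((4 * k + 4) * nn) * (4 * k + 2) = 2 ^ 3 * (qq ^ 3 * (mm * (cc * nn))) by ring, hp.dvd_mul,
    hp.dvd_mul, hp.dvd_mul, hp.dvd_mul] at h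
  exact h.imp (fun e => (Nat.prime_dvd_prime_iff_eq hp Nat.prime_two).1 (hp.dvd_of_dvd_pow e))
    (Or.imp_left fun e => r.eq3 hp (hp.dvd_of_dvd_pow e))

theorem conjH (hp : (orderOf z).Prime) (h : orderOf z ∣ cc) : ∃ x, C1[z] = cj x HH := by
  obtain ⟨g, hg⟩ := exists_conj_mem_of_prime hp (r.idxH hp h)
  exact ⟨g⁻¹, by rw [← r.cen0 hg (conj_ne_one.2 fun e => hp.ne_one (by simp [e])), ← C1_conj]; congr 2; group⟩

theorem cop (hp : (orderOf z).Prime) (h : ¬ orderOf z ∣ nn) : (#C1[z]).Coprime nn := by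
  have cM : (#M).Coprime nn := r.cM ▸ ((nq.pow_right 3).mul_right (n2.mul_right nc)).symm
  have c4 : (nn).Coprime (4 * mm) := (n2.pow_right 2).mul_right r.nm
  rcases r.prime_cases hp (orderOf_dvd_natCard z) with e | e | e | e | e
  · rw [r.cC e, show 4 * k + 4 = 4 * mm by ring]
    exact (n2.mul_right ((nq.mul_right c4).mul_right nc)).symm
  · obtain ⟨x, hx⟩ := r.three e
    exact cM.coprime_dvd_left (card_cj x M ▸ cardSg fun g hg => mem_cj.2 (hx g hg))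
  · exact c4.symm.coprime_dvd_left (r.cT (fun e => hp.ne_one (by simp [e])) e)
  · obtain ⟨x, hx⟩ := r.conjH hp e
    rw [hx, card_cj]; exact cM.coprime_dvd_left (cardSg inf_le_left)
  · exact absurd e h

theorem cases (g : G) : 0 < fx (G ⧸ M) g ∨ g ∈ classSupp (((W ⊔ T : Subgroup G) : Set G) \ W) ⊤ ∨
    (g ≠ 1 ∧ ∀ p, p.Prime → p ∣ orderOf g → p ∣ nn) := by
  have sq : g * g = 1 → 0 < fx (G ⧸ M) g := fun gg => by
    by_cases g1 : g = 1
    · exact r.fx_pos (x := 1) (by simp [g1])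
    obtain ⟨x, rfl⟩ := isConj_iff.1 (r.h.cls (orderOf_two_iff.2 ⟨gg, g1⟩))
    exact r.fx_pos (x := x) (by simpa [mul_assoc] using r.tM)
  by_cases h : ∃ p, p.Prime ∧ p ∣ orderOf g ∧ p ≠ 2 ∧ ¬ p ∣ nn
  · obtain ⟨p, hp, hd, p2, pn⟩ := h
    obtain ⟨i, rfl⟩ := exists_prime_pow hd
    have gc := C1_le_pow g i (cent1_self g)
    rcases r.prime_cases hp (orderOf_dvd_natCard _) with e | e | e | e | e
    · exact absurd e p2
    · obtain ⟨x, hx⟩ := r.three e
      exact .inl (r.fx_pos (hx g gc))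
    · obtain ⟨x, hx⟩ := r.conjT hp e
      have := conj_mem_cj x gc
      rw [← C1_conj, r.cenT hx (conj_ne_one.2 fun e => hp.ne_one (by simp [e]))] at this
      by_cases gW : x * g * x⁻¹ ∈ W
      · refine .inl (sq ?_)
        have := r.loc.sqW _ gW
        rwa [conj_mul, conj_eq_one_iff] at this
      · exact .inr (.inl ((classSupp_conj_iff (mem_top x)).1 (sub_classSupp _ _ ⟨this, gW⟩)))
    · obtain ⟨x, hx⟩ := r.conjH hp e
      exact .inl (r.fx_pos (mem_inf.1 (mem_cj.1 (hx ▸ gc))).1)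
    · exact absurd e pn
  push Not at h
  by_cases h2 : 2 ∣ orderOf g
  · refine .inl (sq ?_)
    obtain ⟨i, hi⟩ := exists_prime_pow h2
    have c := (r.cop (hi ▸ Nat.prime_two) (fun e => absurd (n2.symm.eq_one_of_dvd (by rwa [hi] at e)) (by decide))).coprime_dvd_left
      (orderOf_dvd_cardG (C1_le_pow g i (cent1_self g)))
    have := Nat.eq_prime_pow_of_unique_prime_dvd (p := 2) (orderOf_pos g).ne' fun {d} hd hd' => by_contra fun e =>
      hd.one_lt.ne' (Nat.eq_one_of_dvd_coprimes c hd' (h d hd hd' e))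
    exact r.h.sq (this ▸ pow_orderOf_eq_one g)
  by_cases g1 : g = 1
  · exact .inl (sq (by simp [g1]))
  exact .inr (.inr ⟨g1, fun p hp hd => h p hp hd (by rintro rfl; exact h2 hd)⟩)

end R0
end Cfsg.Agent.ReeW
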