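import Cfsg.Agent.ReeW.D
/-!
Groups of Ree type: counting pairs of involutions whose product has order dividing `q² - q + 1` (`lower`, `side`); every
prime divisor of `q² - q + 1` is the order of a strongly real element (`real`, `ree_real`).
-/

set_option autoImplicit false
set_option linter.unusedSectionVars false
set_option linter.unusedVariables false

namespace Cfsg.Agent.ReeW
open Subgroup MulAction Cfsg.Agent.BG Cfsg.Agent.GW Cfsg.Agent.Invol Cfsg.Agent.AB Cfsg.Agent.AB.E3 Cfsg.Agent.Classical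
open Cfsg.Agent.S4272
open scoped _root_.Classical MatrixGroups

theorem sc_syl {G : Type*} [Group G] [Finite G] {A : Subgroup G} (h : SC A) {p : ℕ} [hp : Fact p.Prime] (hd : p ∣ #A) :
    ∃ P, SylowIn p P ⊤ ∧ P ≤ A ∧ P ≠ ⊥ := by
  obtain ⟨z, hz, e⟩ := Cauchy hp.out hd
  have z1 : z ≠ 1 := fun e' => hp.out.ne_one (by simp [← e, e'])
  obtain ⟨P, hP, le⟩ := Sylow_superset (le_top (a := zpowers z)) (IsPGroup.of_card (p := p) (n := 1) (by simp [e]))
  have P0 := ne_bot_of_mem (le (mem_zpowers z)) z1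
  have := (nontrivial_iff_ne_bot P).2 P0
  have := hP.pg.center_nontrivial
  obtain ⟨⟨c, hc⟩, c1⟩ := exists_ne (1 : center P)
  have k : ∀ x ∈ P, x ∈ C1[(c : G)] := fun x hx =>
    mem_cent1.2 (congrArg Subtype.val (mem_center_iff.1 hc ⟨x, hx⟩))
  exact ⟨P, hP, h c (h z hz z1 ▸ mem_cent1_comm.1 (k z (le (mem_zpowers z)))) (fun e => c1 (Subtype.ext (Subtype.ext e))) ▸ k,
    P0⟩

theorem sc_conj {G : Type*} [Group G] [Finite G] {A A' : Subgroup G} (h : SC A) (h' : SC A')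
    (hc : ¬ (#A).Coprime #A') : ∃ g, A' = cj g A := by
  obtain ⟨p, hp, h1, h2⟩ := Nat.Prime.not_coprime_iff_dvd.1 hc
  have := Fact.mk hp
  obtain ⟨P, hP, le, P0⟩ := sc_syl h h1
  obtain ⟨P', hP', le', -⟩ := sc_syl h' h2
  obtain ⟨g, -, rfl⟩ := Sylow_trans hP hP'
  obtain ⟨c, hc, c1⟩ := exists_mem_ne_one P0
  exact ⟨g, by rw [← h' _ (le' (conj_mem_cj g hc)) (conj_ne_one.2 c1), C1_conj, h c (le hc) c1]⟩

theorem sum_ind' {G : Type*} [Fintype G] (S : Set G) [DecidablePred (· ∈ S)] (c : ℕ) :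
    ∑ g, (if g ∈ S then c else 0) = S.ncard * c := by convert sum_ind S c

/-- Non-trivial elements all of whose prime divisors divide `N`. -/
def Sg {G : Type*} [Group G] (N : ℕ) (g : G) : Prop := g ≠ 1 ∧ ∀ p : ℕ, p.Prime → p ∣ orderOf g → p ∣ N

namespace R0
variable {G : Type*} [Group G] [Fintype G] {t s0 σ a b x y z g : G} {L U B M W T : Subgroup G} {u s : L} {K : Subgroup L}
  {k : ℕ} (r : R0 t L U B M W T u s K s0 σ k)

local notation "qq" => 4 * k + 3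
local notation "cc" => 2 * k + 1
local notation "mm" => k + 1
local notation "nn" => 16 * k ^ 2 + 20 * k + 7
local notation "HH" => M ⊓ cj (u : G) M
local notation "H0" => B ⊓ cj (u : G) B

include r

theorem cardY (k0 : 0 < k) : 4 * k * Nat.card G ≤ (classSupp {y | y ∈ HH ∧ y * y ≠ 1} ⊤).ncard * (2 * (2 * cc)) := by
  have l : 4 * k ≤ {y | y ∈ HH ∧ y * y ≠ 1}.ncard := by
    have := (Set.ncard_le_ncard (show ((HH : Subgroup G) : Set G) ⊆ {y | y ∈ HH ∧ y * y ≠ 1} ∪ {1, t} from fun y hy => by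
      by_cases e : y * y = 1
      exacts [.inr (r.invol hy e), .inl ⟨hy, e⟩])).trans (Set.ncard_union_le _ _)
    rw [Set.ncard_pair (orderOf_two_iff.1 r.h.ht).2.symm, show ((HH : Subgroup G) : Set G).ncard = 2 * cc from r.cH] at this
    omega
  have ti : NormedTI {y | y ∈ HH ∧ y * y ≠ 1} ⊤ N[HH] := normedTI_of (Set.nonempty_of_ncard_ne_zero (by omega)) le_top
    (fun g hg a ha => ⟨conj_mem_of_norm hg ha.1, by rw [conj_mul]; exact conj_ne_one.2 ha.2⟩) fun g _ a ha h =>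
      BG.mem_norm.2 (by rw [← r.cenH ha.1 ha.2, ← C1_conj, r.cenH h.1 h.2, r.cenH ha.1 ha.2])
  rw [ti.ncard_classSupp, relIndex_top_right, ← N[HH].index_mul_card, mul_assoc _ (index _), ← r.cH]
  exact Nat.mul_le_mul l (Nat.mul_le_mul_left _ (r.normH k0))

theorem cardX (k0 : 0 < k) : (classSupp (((W ⊔ T : Subgroup G) : Set G) \ W) ⊤).ncard * (4 * mm * 6) =
    4 * k * Nat.card G := by
  have ti := r.loc.toTor.normedTI (fun y hy y1 => r.loc.cent_le hy y1) (by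
    rw [Ne, ← card_eq_one, r.hT]; omega)
  have c := card_mul_relIndex r.loc.toTor.normal.1
  rw [r.loc.toTor.idx6, r.loc.toTor.card, r.hT] at c
  rw [ti.ncard_classSupp, relIndex_top_right, Set.ncard_sdiff (show (W : Set G) ⊆ (W ⊔ T : Subgroup G) from fun _ h => mem_sup_left h),
    show ((W ⊔ T : Subgroup G) : Set G).ncard = 4 * #T from r.loc.toTor.card, show (W : Set G).ncard = 4 from r.loc.cardW,
    r.hT, c, mul_assoc, index_mul_card, show 4 * mm - 4 = 4 * k by omega]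

theorem lower (k0 : 0 < k) : 2 * qq * Nat.card G ≤ 6 * ∑ g, if Sg nn g then pcN t t g else 0 := by
  have ne : ((1 : G) : G ⧸ M) ≠ (u : G) := fun e => r.wM (by simpa using QuotientGroup.eq.1 e)
  have hN : Fintype.card (G ⧸ M) = qq ^ 3 + 1 := by rw [← Nat.card_eq_fintype_card, ← index_eq_card, r.idx]
  obtain ⟨c, h1, h2, h3⟩ := two_count (d := qq ^ 2) r.two r.h.tt ne hN (by convert r.nI)
  have cI' : (cI t).card = qq ^ 2 * nn := by
    have := card_cI (t := t)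
    rw [r.cC r.h.ht, r.hG] at this
    exact Nat.eq_of_mul_eq_mul_right (by positivity) (this.trans (by ring))
  rw [cI'] at h1 h3
  obtain rfl : c = 2 * cc := Nat.eq_of_mul_eq_mul_left (show 0 < qq ^ 3 by positivity)
    (Nat.add_left_cancel (n := qq ^ 2) (h1.trans (by ring)))
  have ft : fx (G ⧸ M) t = qq + 1 :=
    Nat.eq_of_mul_eq_mul_right (m := qq ^ 2 * nn) (by positivity) (h3.trans (by ring))
  have s1 : ∑ g, pcN t t g = (qq ^ 2 * nn) ^ 2 := by simpa [cI', sq] using sum_pc (t := t) fun _ => 1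
  have key : ∀ g, pcN t t g + (if g ∈ ({1} : Set G) then qq ^ 2 * nn * qq ^ 3 else 0) +
      (if g ∈ (cI t : Set G) then qq * (2 * cc) * qq else 0) +
      (if g ∈ classSupp {y | y ∈ HH ∧ y * y ≠ 1} ⊤ then 2 * cc else 0) ≤ pcN t t g * fx (G ⧸ M) g +
      (if g ∈ classSupp (((W ⊔ T : Subgroup G) : Set G) \ W) ⊤ then 4 * mm else 0) +
      if Sg nn g then pcN t t g else 0 := fun g => by
    have nY : g * g = 1 → g ∉ classSupp {y | y ∈ HH ∧ y * y ≠ 1} ⊤ := by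
      rintro gg ⟨x, -, y, hy, rfl⟩
      rw [conj_mul, conj_eq_one_iff] at gg
      exact hy.2 gg
    by_cases g1 : g = 1
    · subst g1
      have e1 : pcN t t 1 = qq ^ 2 * nn := by
        rw [← cI', ← Set.ncard_coe_finset, pcN]
        congr 1; ext v
        simp [mem_cI, r.cls_iff, -isConj_iff]
      have e2 : fx (G ⧸ M) (1 : G) = qq ^ 3 + 1 := by simp [fx, hN]
      rw [if_pos (Set.mem_singleton _), if_neg (by simp [mem_cI, r.cls_iff, -isConj_iff]), if_neg (nY (mul_one 1)), e1, e2, mul_add_one]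
      omega
    rw [if_neg (show g ∉ ({1} : Set G) from g1)]
    by_cases gI : g ∈ (cI t : Set G)
    · obtain ⟨x, rfl⟩ := isConj_iff.1 (mem_cI.1 gI)
      rw [if_pos gI, if_neg (nY (by rw [conj_mul, r.h.tt]; group)), pcN_conj, fx_conj, ft, mul_add_one (pcN t t t)]
      have := Nat.mul_le_mul_right qq r.pt
      omega
    rw [if_neg gI]
    by_cases gY : g ∈ classSupp {y | y ∈ HH ∧ y * y ≠ 1} ⊤
    · rw [if_pos gY]
      obtain ⟨x, -, y, hy, rfl⟩ := gY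
      have l1 := le_pcN (t := t) (fun x => r.h.cls) r.ww (fun e => r.wM (mem_inf.1 e).1) r.invH hy.1
      have l2 : 2 ≤ fx (G ⧸ M) y := by
        rw [← Finset.card_pair ne]
        refine Finset.card_le_card fun ω hω => ?_
        simp only [Finset.mem_insert, Finset.mem_singleton, Finset.mem_filter, Finset.mem_univ, true_and] at hω ⊢
        rcases hω with rfl | rfl
        exacts [smul_coe_iff.2 (by simpa using hy.1.1), smul_coe_iff.2 (mem_cj.1 hy.1.2)]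
      have := Nat.mul_le_mul_left (pcN t t y) l2
      rw [pcN_conj, fx_conj, ← r.cH]
      omega
    rw [if_neg gY]
    rcases r.cases g with e | e | e
    · have := Nat.mul_le_mul_left (pcN t t g) e
      omega
    · rw [if_pos e]
      obtain ⟨x, -, y, hy, rfl⟩ := e
      obtain ⟨w, hw, z, hz, rfl⟩ := r.loc.toTor.mem.1 hy.1
      rw [pcN_conj, r.loc.toTor.pcN_eq (fun y hy y1 => r.loc.cent_le hy y1) (fun x => r.cls_iff) hw hz
        (by rintro rfl; exact hy.2 (by simpa using hw)), r.hT]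
      omega
    · rw [if_pos (show Sg nn g from e)]
      omega
  have := Finset.sum_le_sum fun g (_ : g ∈ Finset.univ) => key g
  simp only [Finset.sum_add_distrib, sum_ind', s1, h2, Set.ncard_singleton, Set.ncard_coe_finset, cI'] at this
  have hY := r.cardY k0
  have hX := r.cardX k0
  have e : (qq ^ 2 * nn) ^ 2 + 1 * (qq ^ 2 * nn * qq ^ 3) + qq ^ 2 * nn * (qq * (2 * cc) * qq) =
      (qq ^ 3 + 1) * ((qq ^ 2) ^ 2 + qq ^ 3 * (2 * cc) ^ 2) + Nat.card G := by rw [r.hG]; ring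
  rw [e] at this
  nlinarith

theorem sg_of (hy : Sg nn y) (hz : z ∈ C1[y]) (z1 : z ≠ 1) : Sg nn z := ⟨z1, fun p hp hd => by_contra fun e => by
  obtain ⟨i, rfl⟩ := exists_prime_pow hd
  obtain ⟨p, hp', hd'⟩ := Nat.exists_prime_and_dvd (mt orderOf_eq_one_iff.1 hy.1)
  exact hp'.one_lt.ne' (Nat.eq_one_of_dvd_coprimes (r.cop hp e) (hd'.trans (orderOf_dvd_cardG
    (mem_cent1_comm.1 (mem_C1.2 ((mem_C1.1 hz).pow_left i))))) (hy.2 p hp' hd'))⟩

theorem card_sg (hy : Sg nn y) : #C1[y] ∣ nn := by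
  refine Nat.Coprime.dvd_of_dvd_mul_left (m := qq ^ 3 * (2 ^ 3 * (mm * cc))) (Nat.coprime_of_dvd fun p hp h1 h2 => ?_)
    ((card_subgroup_dvd_card _).trans (dvd_of_eq (by rw [r.hG]; ring)))
  obtain ⟨z, hz, rfl⟩ := Cauchy hp h1
  exact hp.one_lt.ne' (Nat.eq_one_of_dvd_coprimes ((nq.pow_right 3).mul_right ((n2.pow_right 3).mul_right
    (r.nm.mul_right nc))) ((r.sg_of hy hz fun e => hp.ne_one (by simp [e])).2 _ hp dvd_rfl) h2)

theorem inv_sg (hy : Sg nn y) (ha : orderOf a = 2) (hi : Inv a y) :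
    IsMulCommutative C1[y] ∧ ∀ z ∈ C1[y], Inv a z := by
  refine (Gen.fpf_invol (BSW.norm_of_inverts hi) ((orderOf_two_iff.1 ha).1 ▸ one_mem _) ?_).imp_right And.right
  exact card_eq_one.1 (Nat.eq_one_of_dvd_coprimes (r.cop (ha ▸ Nat.prime_two) fun e =>
    absurd (n2.symm.eq_one_of_dvd (by rwa [ha] at e)) (by decide)) (cardSg inf_le_right)
    ((cardSg inf_le_left).trans (r.card_sg hy)))

theorem sc (hy : Sg nn y) (ha : orderOf a = 2) (hi : Inv a y) : SC C1[y] := fun z hz z1 =>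
  le_antisymm (le_cent1_iff.2 ((r.inv_sg (r.sg_of hy hz z1) ha ((r.inv_sg hy ha hi).2 z hz)).1.cent
    (mem_cent1_comm.1 hz))) (le_cent1_iff.2 ((r.inv_sg hy ha hi).1.cent hz))

theorem exists_inv (h : pcN t t y ≠ 0) : ∃ a, orderOf a = 2 ∧ Inv a y :=
  let ⟨a, ha⟩ := Set.nonempty_of_ncard_ne_zero h
  ⟨a, r.cls_iff.1 ha.1, (inv_of_pc r.h.tt ha).2⟩

theorem seven {d : ℕ} (h : d ∣ nn) (d1 : d ≠ 1) : 7 ≤ d := by
  by_contra! l
  have h2 : ¬ 2 ∣ nn := fun e => absurd (n2.symm.eq_one_of_dvd e) (by decide)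
  have h3 : ¬ 3 ∣ nn := fun e => absurd (Nat.eq_one_of_dvd_coprimes nq e r.q3') (by decide)
  have h5 : ¬ 5 ∣ nn := fun e => by
    obtain ⟨j, i, hi, rfl⟩ : ∃ j i, i < 5 ∧ k = 5 * j + i := ⟨k / 5, k % 5, Nat.mod_lt _ (by decide), by omega⟩
    rw [show 16 * (5 * j + i) ^ 2 + 20 * (5 * j + i) + 7 = 5 * (80 * j ^ 2 + 32 * j * i + 20 * j + 3 * i ^ 2 + 4 * i + 1) +
      (i ^ 2 + 2) by ring, Nat.dvd_add_right (dvd_mul_right _ _)] at e
    interval_cases i <;> omega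
  interval_cases d
  · simp at h
  · exact d1 rfl
  · exact h2 h
  · exact h3 h
  · exact h2 (Dvd.dvd.trans (by decide) h)
  · exact h5 h
  · exact h2 (Dvd.dvd.trans (by decide) h)

theorem fiber {N N' : ℕ} (hN : N * N' = nn) (hs : N + N' = 8 * mm) (hy : Sg nn y) (h : pcN t t y ≠ 0) (S : Finset G)
    (hS : ∀ z ∈ S, Sg nn z ∧ pcN t t z ≠ 0 ∧ #C1[z] = #C1[y]) :
    ∃ w, 2 ≤ w ∧ (#C1[y] = N → 6 ≤ w) ∧ w * ∑ z ∈ S, pcN t t z ≤ Nat.card G * (#C1[y] - 1) := by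
  obtain ⟨a, a2, ia⟩ := r.exists_inv h
  have sc := r.sc hy a2 ia
  have A0 := ne_bot_of_mem (cent1_self y) hy.1
  have a1 := cardG_gt1 A0
  have c := card_mul_relIndex (normG C1[y])
  have w0 : C1[y].relIndex N[C1[y]] ≠ 0 := fun e => cardG_ne_zero _ (by rw [← c, e, mul_zero])
  refine ⟨C1[y].relIndex N[C1[y]], ?_, fun e => ?_, ?_⟩
  · have : C1[y].relIndex N[C1[y]] ≠ 1 := fun e => by
      have := (r.sg_of hy (relIndex_eq_one.1 e (BSW.norm_of_inverts ia)) (orderOf_two_iff.1 a2).2).2 2 Nat.prime_two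
        (dvd_of_eq a2.symm)
      exact absurd (n2.symm.eq_one_of_dvd this) (by decide)
    omega
  · have m := (Nat.modEq_iff_dvd.1 sc.index_modEq)
    have c2 := N[C1[y]].card_mul_index
    have n7 := r.seven (r.card_sg hy) a1.ne'
    rw [← c, r.hG, ← hN] at c2
    rw [e] at m c2 n7
    generalize C1[y].relIndex N[C1[y]] = w at *
    generalize N[C1[y]].index = i at *
    replace c2 : w * i = qq ^ 3 * ((4 * k + 4) * N') * (4 * k + 2) :=
      Nat.eq_of_mul_eq_mul_left (show 0 < N by omega) (by rw [← mul_assoc, c2]; ring)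
    have d : (N : ℤ) ∣ 6 - w := by
      zify at c2 hN hs
      obtain ⟨j, hj⟩ := m
      refine ⟨-(j * w) + (4 * k + 3) ^ 3 * (4 * k + 4) * (4 * k + 2) -
        N' * (2 * (4 * k + 3) ^ 4 + 4 * (4 * k + 3) ^ 3 - 6 * (4 * k + 3) - 6), ?_⟩
      push_cast at hj
      linear_combination (-w) * hj - c2 - (4 * k + 3) ^ 3 * (4 * k + 4) * (4 * k + 2) * hs +
        (2 * (4 * k + 3) ^ 4 + 4 * (4 * k + 3) ^ 3 - 6 * (4 * k + 3) - 6) * hN
    by_contra! l
    have := Int.le_of_dvd (by omega) d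
    omega
  have l1 : ∑ z ∈ S, pcN t t z ≤ S.card * #C1[y] := by
    rw [← smul_eq_mul]
    exact Finset.sum_le_card_nsmul _ _ _ fun z hz => (hS z hz).2.2 ▸ pcN_le r.h.tt
  have l2 : S.card ≤ (#C1[y] - 1) * N[C1[y]].index := by
    rw [← ncard_sharp, ← relIndex_top_right, ← (sc.normedTI A0).ncard_classSupp, ← Set.ncard_coe_finset]
    refine Set.ncard_le_ncard fun z hz => ?_
    obtain ⟨hz, h', e⟩ := hS z hz
    obtain ⟨b, b2, ib⟩ := r.exists_inv h'
    obtain ⟨g, hg⟩ := sc_conj sc (r.sc hz b2 ib) (by rw [e, Nat.coprime_self]; omega)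
    exact ⟨g, mem_top g, g⁻¹ * z * g, ⟨mem_cj.1 (hg ▸ cent1_self z), fun e => hz.1 (by
      simpa [mul_assoc, inv_mul_eq_one] using e)⟩, by group⟩
  calc _ ≤ C1[y].relIndex N[C1[y]] * ((#C1[y] - 1) * N[C1[y]].index * #C1[y]) := by
        gcongr; exact l1.trans (Nat.mul_le_mul_right _ l2)
    _ = _ := by rw [← N[C1[y]].card_mul_index, ← c]; ring

theorem side {N N' : ℕ} (hN : N * N' = nn) (hs : N + N' = 8 * mm) (N1 : 1 < N) (S : Finset G)
    (hS : ∀ z ∈ S, Sg nn z ∧ pcN t t z ≠ 0 ∧ #C1[z] ∣ N) :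
    6 * ∑ z ∈ S, pcN t t z ≤ Nat.card G * (N - 1) ∧
      ((∀ z ∈ S, #C1[z] ≠ N) → 6 * ∑ z ∈ S, pcN t t z < Nat.card G * (N - 1)) := by
  let A := S.image fun z => #C1[z]
  have a1 : ∀ z ∈ S, 1 < #C1[z] := fun z hz => cardG_gt1 (ne_bot_of_mem (cent1_self z) (hS z hz).1.1)
  have cp : ∀ y ∈ S, ∀ z ∈ S, #C1[y] ≠ #C1[z] → (#C1[y]).Coprime #C1[z] := fun y hy z hz ne => by_contra fun e => by
    obtain ⟨a, a2, ia⟩ := r.exists_inv (hS y hy).2.1
    obtain ⟨b, b2, ib⟩ := r.exists_inv (hS z hz).2.1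
    obtain ⟨g, hg⟩ := sc_conj (r.sc (hS y hy).1 a2 ia) (r.sc (hS z hz).1 b2 ib) e
    exact ne (by rw [hg, card_cj])
  have lt : (∀ z ∈ S, #C1[z] ≠ N) → 6 * ∑ z ∈ S, pcN t t z < Nat.card G * (N - 1) := fun h => by
    have k1 := sum_coprime' A (by simpa [A] using cp) N1 (fun d hd => r.seven (hd.trans (Dvd.intro _ hN)))
      (by simpa [A] using fun z hz => (hS z hz).2.2) (by simpa [A] using fun z hz => (a1 z hz).ne') (by simpa [A] using h)
    have k2 : 2 * ∑ z ∈ S, pcN t t z ≤ Nat.card G * ∑ a ∈ A, (a - 1) := by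
      rw [← Finset.sum_fiberwise_of_maps_to (g := fun z => #C1[z]) (t := A) fun z hz => Finset.mem_image_of_mem _ hz,
        Finset.mul_sum, Finset.mul_sum]
      refine Finset.sum_le_sum fun a ha => ?_
      obtain ⟨y, hy, rfl⟩ := Finset.mem_image.1 ha
      obtain ⟨w, w2, -, l⟩ := r.fiber hN hs (hS y hy).1 (hS y hy).2.1 (S.filter fun z => #C1[z] = #C1[y]) fun z hz =>
        ⟨(hS z (Finset.mem_filter.1 hz).1).1, (hS z (Finset.mem_filter.1 hz).1).2.1, (Finset.mem_filter.1 hz).2⟩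
      exact (Nat.mul_le_mul_right _ w2).trans l
    have := Nat.mul_lt_mul_of_pos_left k1 (Nat.card_pos (α := G))
    nlinarith
  refine ⟨?_, lt⟩
  by_cases h : ∀ z ∈ S, #C1[z] ≠ N
  · exact (lt h).le
  push Not at h
  obtain ⟨y, hy, e⟩ := h
  obtain ⟨w, -, w6, l⟩ := r.fiber hN hs (hS y hy).1 (hS y hy).2.1 S fun z hz => ⟨(hS z hz).1, (hS z hz).2.1,
    by_contra fun ne => (a1 z hz).ne' ((cp z hz y hy ne).eq_one_of_dvd (e ▸ (hS z hz).2.2))⟩
  exact (Nat.mul_le_mul_right _ (w6 e)).trans (e ▸ l)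

theorem real (k0 : 0 < k) {N N' : ℕ} (hN : N * N' = nn) (hs : N + N' = 8 * mm) (N1 : 1 < N) (N1' : 1 < N')
    (mix : ∀ (x : G) (p₁ p₂ : ℕ), p₁.Prime → p₂.Prime → p₁ ∣ N → p₂ ∣ N' → ¬ 2 ∣ orderOf x → p₁ ∣ orderOf x →
      p₂ ∣ orderOf x → False) {p : ℕ} (hp : p.Prime) (hd : p ∣ nn) : ∃ z a : G, orderOf z = p ∧ orderOf a = 2 ∧ Inv a z := by
  by_contra! no
  have cN : N.Coprime N' := Nat.coprime_of_dvd fun p hp h1 h2 => hp.one_lt.ne' (Nat.eq_one_of_dvd_coprimes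
    ((n2.pow_right 3).mul_right r.nm) (hN ▸ h1.mul_right _) ((dvd_add h1 h2).trans (dvd_of_eq hs)))
  let S := Finset.univ.filter fun z : G => Sg nn z ∧ pcN t t z ≠ 0
  have e : ∑ g, (if Sg nn g then pcN t t g else 0) = ∑ z ∈ S, pcN t t z := by
    rw [Finset.sum_filter]
    refine Finset.sum_congr rfl fun g _ => ?_
    by_cases h : pcN t t g = 0 <;> simp [h]
  have l := r.lower k0
  rw [e, ← Finset.sum_filter_add_sum_filter_not S fun z => #C1[z] ∣ N] at l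
  have np : ∀ z ∈ S, ¬ p ∣ #C1[z] := fun z hz h => by
    obtain ⟨hz, h'⟩ := (Finset.mem_filter.1 hz).2
    obtain ⟨a, a2, ia⟩ := r.exists_inv h'
    obtain ⟨x, hx, e⟩ := Cauchy hp h
    exact no x a e a2 ((r.inv_sg hz a2 ia).2 x hx)
  obtain ⟨l1, l1'⟩ := r.side hN hs N1 (S.filter fun z => #C1[z] ∣ N) fun z hz => by
    simp only [S, Finset.mem_filter, Finset.mem_univ, true_and] at hz
    exact ⟨hz.1.1, hz.1.2, hz.2⟩
  obtain ⟨l2, l2'⟩ := r.side (mul_comm N N' ▸ hN) (add_comm N N' ▸ hs) N1' (S.filter fun z => ¬ #C1[z] ∣ N) fun z hz => by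
    simp only [S, Finset.mem_filter, Finset.mem_univ, true_and] at hz
    refine ⟨hz.1.1, hz.1.2, ?_⟩
    have d := r.card_sg hz.1.1
    obtain ⟨a, a2, ia⟩ := r.exists_inv hz.1.2
    rw [← hN] at d
    refine Nat.Coprime.dvd_of_dvd_mul_left (Nat.coprime_of_dvd fun p₁ h1 d1 d1' => hz.2
      (Nat.Coprime.dvd_of_dvd_mul_right (Nat.coprime_of_dvd fun p₂ h2 d2 d2' => ?_) d)) d
    obtain ⟨x, hx, e1⟩ := Cauchy h1 d1
    obtain ⟨y, hy, e2⟩ := Cauchy h2 d2
    have o := (mem_C1.1 ((r.inv_sg hz.1.1 a2 ia).1.cent hy x hx |> fun e => mem_cent1.2 e)).orderOf_mul_eq_mul_orderOf_of_coprime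
      (by rw [e1, e2]; exact (cN.coprime_dvd_left d1').coprime_dvd_right d2')
    refine mix (x * y) p₁ p₂ h1 h2 d1' d2' (fun e => ?_) (by rw [o, e1]; exact dvd_mul_right _ _)
      (by rw [o, e2]; exact dvd_mul_left _ _)
    exact absurd (n2.symm.eq_one_of_dvd (e.trans ((orderOf_dvd_cardG (mul_mem hx hy)).trans (hN ▸ d)))) (by decide)
  have s : Nat.card G * (N - 1) + Nat.card G * (N' - 1) = 2 * qq * Nat.card G := by
    rw [← mul_add, mul_comm, show N - 1 + (N' - 1) = 2 * qq by omega]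
  rcases (hp.dvd_mul).1 (hN ▸ hd) with h | h
  · have := l1' fun z hz e => np z (Finset.mem_filter.1 hz).1 (e ▸ h)
    omega
  · have := l2' fun z hz e => np z (Finset.mem_filter.1 hz).1 (e ▸ h)
    omega

end R0

theorem ree_real {G : Type*} [Group G] [Finite G] [IsSimpleGroup G] {t : G} {L : Subgroup G} {u s : L} {K : Subgroup L}
    {F : Type*} [Field F] [Finite F] (h : WJ t L L u s K) (hp : ⁅(⊤ : Subgroup G), (⊤ : Subgroup G)⁆ = ⊤)
    (e : L ≃* PSL(2, F)) {j : ℕ} (j1 : 1 ≤ j) (hj : Nat.card F = 3 ^ (2 * j + 1))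
    (hG : Nat.card G = (3 ^ (2 * j + 1)) ^ 3 * ((3 ^ (2 * j + 1)) ^ 3 + 1) * (3 ^ (2 * j + 1) - 1))
    {p : ℕ} (pp : p.Prime) (hd : p ∣ Nat.card G) (hL : ¬ p ∣ #L) : ∃ z a : G, orderOf z = p ∧ orderOf a = 2 ∧ Inv a z := by
  have := Fintype.ofFinite G
  have oF : Odd (Nat.card F) := hj ▸ Odd.pow (by decide)
  obtain ⟨U, B, b, c⟩ := exists_rb e hj
  obtain ⟨M, m1, m2, m3, m4⟩ := main' b h rfl (hj ▸ c) hG
  obtain ⟨e0⟩ := prod_equiv h.ht h.dp
  have e' := e0.trans ((MulEquiv.refl _).prodCongr e)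
  obtain ⟨ρ, hρ⟩ : ∃ ρ, 3 ^ j = ρ + 3 := Nat.exists_eq_add_of_le' (Nat.pow_le_pow_right (n := 3) (by decide) j1)
  have hq : 3 ^ (2 * j + 1) = 3 * (ρ + 3) ^ 2 := by rw [← hρ]; ring
  obtain ⟨k, hk⟩ : ∃ k, Nat.card F = 4 * k + 3 := ⟨Nat.card F / 4, by
    have : Nat.card F % 4 = 3 := by rw [hj, pow_succ, pow_mul, Nat.mul_mod, Nat.pow_mod]; simp
    omega⟩
  have hk' : 4 * k + 3 = 3 * (ρ + 3) ^ 2 := by rw [← hk, hj, hq]
  have k6 : 6 ≤ k := by nlinarith
  obtain ⟨π, u', s', K', m, jr, -⟩ := jr_of_psl h.no2 h.hab h.ht (by omega) e'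
  obtain ⟨W, T, s0, σ, loc, hT, -⟩ := jr.exists_loc
  have cL := card_PSL2_mul (F := F)
  rw [gcd_two_pred_of_odd oF, hk] at cL
  have cL' : Nat.card PSL(2, F) = (4 * k + 3) * (4 * k + 4) * (2 * k + 1) :=
    Nat.eq_of_mul_eq_mul_left two_pos (cL.trans (by rw [show 4 * k + 3 - 1 = 2 * (2 * k + 1) by omega]; ring))
  have hm : m = k + 1 := by
    obtain ⟨I, hI⟩ := Block.exists_pMod 2
    obtain ⟨μ, A, B, C, hμ, hL', -⟩ := exists_blk3 I jr.bsw jr.card jr.odd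
    have := natAbs_eq (q := 4 * k + 3) hμ (Int.natCast_pos.2 jr.odd.pos) (by omega) (by
      rw [← hL', cL']; push_cast; ring)
    have := jr.odd
    rw [Nat.odd_iff] at this
    omega
  rw [← hj, hk] at hG m1
  have r : R0 t L U B M W T u s K s0 σ k := ⟨h, b, loc, hT.trans hm, ⟨_, hk ▸ hj⟩,
    Nat.eq_of_mul_eq_mul_left two_pos (c.trans (by rw [hk, show 4 * k + 3 - 1 = 2 * (2 * k + 1) by omega]; ring)),
    (Nat.card_congr e.toEquiv).trans cL', hG.trans (by rw [show 4 * k + 3 - 1 = 4 * k + 2 by omega]; ring),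
    m1, m2, m3, m4⟩
  have hρ' : (3 : ℤ) ^ j = ρ + 3 := by exact_mod_cast hρ
  refine r.real (by omega) (N := 3 * (ρ + 3) ^ 2 + 3 * (ρ + 3) + 1) (N' := 3 * (ρ + 2) ^ 2 + 3 * (ρ + 2) + 1)
    (by zify at hk' ⊢; linear_combination (-(4 * k + 3 + 3 * (ρ + 3) ^ 2) + 1) * hk') (by zify at hk' ⊢; linear_combination -2 * hk')
    (by omega) (by omega) (fun x p₁ p₂ h1 h2 d1 d2 => no_mix h hp e hj h1 h2
      (by rw [hρ']; exact_mod_cast d1) (by
        rw [hρ']; convert Int.natCast_dvd_natCast.2 d2 using 1; push_cast; ring)) pp ?_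
  rw [r.hL] at hL
  rcases r.prime_cases pp hd with rfl | rfl | e | e | e
  · exact absurd (((show 2 ∣ 4 * k + 4 by omega).mul_left _).mul_right _) hL
  · exact absurd ((r.q3'.mul_right _).mul_right _) hL
  · exact absurd (((e.trans (show k + 1 ∣ 4 * k + 4 from ⟨4, by ring⟩)).mul_left _).mul_right _) hL
  · exact absurd (e.mul_left _) hL
  · exact e

end Cfsg.Agent.ReeW
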