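import Cfsg.Agent.ReeW.E
import Cfsg.Agent.LieM.PiCl
import Cfsg.Agent.GW.Main
import Cfsg.Agent.GW.Psl
/-!
`π`-homogeneous groups with abelian or dihedral Sylow 2-subgroups are `π'`-closed (`cl_of_AD`).
-/

set_option autoImplicit false
set_option linter.unusedSectionVars false
set_option linter.unusedVariables false

namespace Cfsg.Agent.ReeW
open Subgroup Cfsg.Agent.BG Cfsg.Agent.GW Cfsg.Agent.AB Cfsg.Agent.Classical Cfsg.Agent.LieM Cfsg.Agent.FG
open scoped MatrixGroups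

universe u
variable {G : Type*} [Group G] [Finite G] {ρ : Set ℕ}

theorem not_real (h0 : PiHom ρ G) (h2 : 2 ∈ ρ) {z a : G} (hp : (orderOf z).Prime) (hρ : orderOf z ∉ ρ) (hi : Inv a z) :
    False := by
  have := Fact.mk hp
  have o : Odd (orderOf z) := hp.odd_of_ne_two fun e => hρ (e ▸ h2)
  have c := h0 _ hp hρ (zpowers z) (IsPGroup.of_card (n := 1) (by simp)) _ (constt_mem ρ (norm_of_inv hi))
    (p_elt_constt ρ a)
  have c' : Commute (constt ρ a)⁻¹ z := (commute_of_le (zpowers_le.2 c) (mem_zpowers _) (mem_zpowers z)).inv_left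
  have i := hi.mul_left c'
  rw [← constt_compl] at i
  have ob : Odd (orderOf (constt ρᶜ a)) := pnat_odd.1 ((p_elt_constt ρᶜ a).mono fun q hq e => hq (e ▸ h2))
  exact hp.ne_one (orderOf_eq_one_iff.2 (i.eq_one (mem_C1.1 (GW.mem_of_sq_mem ob (mem_C1.2 (i.commute_mul i)))) o))

theorem of_cyc [IsSimpleGroup G] (hna : ¬ IsMulCommutative G) (h0 : PiHom ρ G)
    (h : ∀ p, p.Prime → p ∉ ρ → p ∣ Nat.card G → ∀ P : Sylow p G, IsCyclic P) : PiNat ρ (Nat.card G) := by
  classical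
  by_contra ne
  have ex : ∃ p, p.Prime ∧ p ∣ Nat.card G ∧ p ∉ ρ := by
    by_contra! k
    exact ne k
  obtain ⟨hp, hd, hρ⟩ := Nat.find_spec ex
  have mn := fun q => Nat.find_min' ex (m := q)
  generalize Nat.find ex = p at *
  have := Fact.mk hp
  obtain ⟨P⟩ : Nonempty (Sylow p G) := inferInstance
  have hc := h p hp hρ hd P
  have PC : (P : Subgroup G) ≤ C[(P : Subgroup G)] := P.le_centralizer
  have nc : N[(P : Subgroup G)] ≤ C[(P : Subgroup G)] := by
    rw [← relIndex_eq_one]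
    by_contra e
    obtain ⟨r, hr, hrd⟩ := Nat.exists_prime_and_dvd e
    have := Fact.mk hr
    obtain ⟨R, hR⟩ := Sylow_exists r N[(P : Subgroup G)]
    refine (p'natE hr).1 hR.idx (hrd.trans (relIndex_dvd_of_le_left _ fun x hx => ?_))
    by_cases r0 : r ∈ ρ
    · exact h0 p hp hρ P P.2 x (hR.le hx) ((mem_p_elt hR.pi hx).mono (by simpa using r0))
    have l := mn r ⟨hr, hrd.trans ((relIndex_dvd_card _ _).trans (card_subgroup_dvd_card _)), r0⟩
    obtain ⟨k, hk⟩ := P.2.exists_card_eq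
    have d := hrd.trans (relIndex_cent_dvd_Aut le_rfl)
    rw [card_Aut_cyclic hc, hk] at d
    rcases k with _ | k
    · exact absurd (Nat.dvd_one.1 (by simpa using d)) hr.ne_one
    rw [Nat.totient_prime_pow hp (by omega), hr.dvd_mul] at d
    rcases d with d | d
    · obtain rfl := (Nat.prime_dvd_prime_iff_eq hr hp).1 (hr.dvd_of_dvd_pow d)
      exact absurd (hrd.trans ((relIndex_dvd_of_le_left _ PC).trans (relIndex_dvd_index_of_le P.le_normalizer)))
        P.not_dvd_index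
    · have := Nat.le_of_dvd (by have := hp.two_le; omega) d
      have := hp.two_le; omega
  have k := MonoidHom.ker_transferSylow_isComplement' P nc
  rcases IsSimpleGroup.eq_bot_or_eq_top_of_normal (MonoidHom.transferSylow P nc).ker inferInstance with e | e
  · rw [e, isComplement'_bot_left] at k
    have : IsCyclic G := isCyclic_of_surjective (P : Subgroup G).subtype fun x => ⟨⟨x, k ▸ mem_top x⟩, rfl⟩
    exact hna ⟨⟨IsCyclic.commGroup.mul_comm⟩⟩
  · rw [e, isComplement'_top_left] at k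
    exact P.not_dvd_index (by rwa [k, index_bot])

theorem cyc_of_not_sq {p : ℕ} (hp : p.Prime) (h : ¬ p ^ 2 ∣ Nat.card G) (P : Sylow p G) : IsCyclic P := by
  have := Fact.mk hp
  obtain ⟨k, hk⟩ := P.2.exists_card_eq
  refine isCyclic_of_card_dvd_prime (p := p) ?_
  rcases k with _ | _ | k
  · simp [hk]
  · simp [hk]
  · exact absurd ((pow_dvd_pow p (by omega)).trans (hk ▸ card_subgroup_dvd_card _)) h

theorem psl_pi {F : Type*} [Field F] [Finite F] (h4 : 4 ≤ Nat.card F) (h0 : PiHom ρ PSL(2, F)) (h2 : 2 ∈ ρ) :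
    PiNat ρ (Nat.card PSL(2, F)) := fun p hp hd => by
  by_contra hρ
  have := Fact.mk hp
  obtain ⟨z, rfl⟩ := exists_prime_orderOf_dvd_card' p hd
  obtain ⟨g, rfl⟩ := pslMk_surjective z
  by_cases h : disc g.1 = 0
  swap
  · obtain ⟨w, hw⟩ := sl_exists_inverter h
    exact not_real h0 h2 hp hρ (a := pslMk F w) (by rw [GW.Inv, ← map_inv, ← map_mul, ← map_mul, hw, map_inv])
  obtain ⟨l, _⟩ := CharP.exists F
  have hl := CharP.char_is_prime F l
  have := Fact.mk hl
  have ul : ∀ b : F, uSL b ^ l = 1 := fun b => by rw [uSL_pow, CharP.cast_eq_zero, zero_mul, uSL_zero]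
  have e : orderOf (pslMk F g) = l := by
    refine (Nat.prime_dvd_prime_iff_eq hp hl).1 (orderOf_dvd_of_pow_eq_one ?_)
    obtain ⟨b, e | e⟩ := sl_isConj_uSL_of_disc h <;> obtain ⟨x, rfl⟩ := isConj_iff.1 e.symm
    · rw [← map_pow, conj_pow, ul]; simp
    · rw [mul_neg, neg_mul, pslMk_neg, ← map_pow, conj_pow, ul]; simp
  rw [e] at hρ
  obtain ⟨a, ha⟩ : ∃ a : Fˣ, a ^ 2 ≠ 1 := by
    by_contra! k
    obtain ⟨g, hg⟩ := IsCyclic.exists_ofOrder_eq_natCard (α := Fˣ)
    have := Nat.le_of_dvd two_pos (hg ▸ orderOf_dvd_of_pow_eq_one (k g))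
    rw [Nat.card_units] at this
    omega
  have ne : ∀ a : Fˣ, pslMk F (dSL a) = 1 ↔ a ^ 2 = 1 := fun a => by
    rw [← map_one (pslMk F), pslMk_eq_iff, ← Units.val_inj (b := 1), Units.val_pow_eq_pow_val, Units.val_one, sq_eq_one_iff,
      Units.val_eq_one]
    refine or_congr ⟨fun e => dSL_injective (e.trans (map_one (dSLHom F)).symm), fun e => e ▸ map_one (dSLHom F)⟩
      ⟨fun e => by simpa using congrArg (fun x : SL(2, F) => x.1 0 0) e, fun e => ?_⟩
    ext i j; fin_cases i <;> fin_cases j <;> simp [e]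
  obtain ⟨r, hr, hd⟩ := Nat.exists_prime_and_dvd (mt orderOf_eq_one_iff.1 (mt (ne a).1 ha))
  obtain ⟨i, hi⟩ := exists_prime_pow hd
  rw [← map_pow, show dSL a ^ i = dSL (a ^ i) from (map_pow (dSLHom F) a i).symm] at hi
  generalize a ^ i = b at hi
  subst hi
  by_cases r0 : orderOf (pslMk F (dSL b)) ∈ ρ
  swap
  · exact not_real h0 h2 hr r0 (a := pslMk F wSL) (by
      rw [GW.Inv, ← map_inv, ← map_mul, ← map_mul, wSL_conj_dSL, map_inv])
  have c := h0 l hl hρ ((pslMk F).comp (E3.uH F)).range (by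
      rintro ⟨_, x, rfl⟩
      exact ⟨1, Subtype.ext (by rw [pow_one]; exact (map_pow (pslMk F) _ l).symm.trans ((congrArg _ (ul _)).trans (map_one _)))⟩)
    (pslMk F (dSL b)) (mem_norm_of_cj_le (BG.cj_le_iff.2 (by
      rintro _ ⟨x, rfl⟩
      exact mem_cj_inv.2 ⟨Multiplicative.ofAdd ((b : F) ^ 2 * x.toAdd), by
        rw [← map_inv]; exact (congrArg (pslMk F) (dSL_conj_uSL b _).symm).trans (by rw [map_mul, map_mul]; rfl)⟩)))
    ((pnat_prime hr).2 r0)
  have k : pslMk F (uSL 1 * dSL b) = pslMk F (dSL b * uSL 1) := by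
    rw [map_mul, map_mul]; exact mem_cent.1 c _ ⟨Multiplicative.ofAdd 1, rfl⟩
  have b2 : b ^ 2 ≠ 1 := fun e => hr.ne_one (orderOf_eq_one_iff.2 ((ne b).2 e))
  rcases pslMk_eq_iff.1 k with k | k
  · refine b2 (Units.ext ?_)
    have := congrArg (fun x : SL(2, F) => x.1 0 1) k
    simp [Matrix.mul_apply, Fin.sum_univ_two] at this
    rw [Units.val_pow_eq_pow_val, sq, Units.val_one]
    nth_rw 1 [← this]; simp
  · have := congrArg (fun x : SL(2, F) => x.1 0 0) k
    simp [Matrix.mul_apply, Fin.sum_univ_two] at this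
    have h2' : (2 : F) = 0 := (mul_eq_zero.1 (show 2 * (b : F) = 0 by linear_combination this)).resolve_right b.ne_zero
    exact hρ ((Nat.prime_dvd_prime_iff_eq hl Nat.prime_two).1 ((CharP.cast_eq_zero_iff F l 2).1 h2') ▸ h2)

theorem psl_pi' {F : Type*} [Field F] [Finite F] (h4 : 4 ≤ Nat.card F) (e : G ≃* PSL(2, F)) (h0 : PiHom ρ G)
    (h2 : 2 ∈ ρ) : PiNat ρ (Nat.card G) :=
  Nat.card_congr e.toEquiv ▸ psl_pi h4 (piHom_map (f := e.toMonoidHom) e.surjective h0) h2

theorem a7_pi [IsSimpleGroup G] (hna : ¬ IsMulCommutative G) (e : G ≃* alternatingGroup (Fin 7)) (h0 : PiHom ρ G)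
    (h2 : 2 ∈ ρ) : PiNat ρ (Nat.card G) := by
  refine of_cyc hna h0 fun p hp hρ hd => cyc_of_not_sq hp fun h => ?_
  have c : Nat.card G = 2 ^ 3 * 3 ^ 2 * 35 := by
    have := two_mul_nat_card_alternatingGroup (α := Fin 7)
    rw [Nat.card_perm, Nat.card_eq_fintype_card (α := Fin 7), Fintype.card_fin, ← Nat.card_congr e.toEquiv] at this
    simp [Nat.factorial] at this; omega
  have l : p ≤ 50 := by
    have := Nat.le_of_dvd Nat.card_pos h
    rw [c] at this; nlinarith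
  have p3 : p = 2 ∨ p = 3 := by
    rw [c] at h
    interval_cases p <;> simp_all (config := {decide := true})
  rcases p3 with rfl | rfl
  · exact hρ h2
  let z : alternatingGroup (Fin 7) := ⟨Equiv.swap 0 1 * Equiv.swap 1 2, by rw [Equiv.Perm.mem_alternatingGroup]; decide⟩
  let a : alternatingGroup (Fin 7) := ⟨Equiv.swap 0 1 * Equiv.swap 3 4, by rw [Equiv.Perm.mem_alternatingGroup]; decide⟩
  have o : orderOf z = 3 := orderOf_eq_prime (Subtype.ext (by decide)) fun e => absurd (congrArg Subtype.val e) (by decide)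
  exact not_real (piHom_map (f := e.toMonoidHom) e.surjective h0) h2 (z := z) (a := a) (o ▸ hp) (o ▸ hρ)
    (Subtype.ext (by decide))

theorem ab_pi [IsSimpleGroup G] (hG : ¬ IsMulCommutative G) (P : Sylow 2 G) (hP : IsMulCommutative (P : Subgroup G))
    (h0 : PiHom ρ G) (h2' : 2 ∈ ρ) : PiNat ρ (Nat.card G) := by
  rcases LieM.kn_of_ab hG P hP with ⟨M, hM⟩ | ⟨V, h1, h2, h3⟩ |
    ⟨A, hA, -, hS, t, E, L, h1, h2, h3, ⟨F, i1, i2, ho, h5, ⟨e⟩⟩, h4⟩
  · obtain ⟨F, i1, i2, n, k1, k2, ⟨e⟩, -⟩ := psl_of_se hG (hab_of_sylow P hP) hM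
    exact psl_pi' (by rw [Nat.card_eq_fintype_card, k2]; exact Nat.pow_le_pow_right (n := 2) two_pos k1) e h0 h2'
  · obtain ⟨P, rfl⟩ := sylow_of_sylowIn_top h3
    obtain ⟨F, i1, i2, -, k, ⟨e⟩⟩ := psl_of_klein P (Gold.klein_of h1 h2)
    exact psl_pi' (by rw [Nat.card_eq_fintype_card]; omega) e h0 h2'
  have hab := hab_of_sylow P hP
  rw [← Nat.card_eq_fintype_card] at ho h5
  have := Matrix.ProjectiveSpecialLinearGroup.rank_two_simple (F := F) h5
  obtain ⟨u, s, K, w⟩ := wj_of_psl (simple_perfect hG) hab h1 h2 h3 h4 ho e (Op'_simple e.isSimpleGroup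
    (Nat.card_congr e.toEquiv ▸ (Dvd.intro 2 rfl).trans (psl_four_dvd h5.le)))
  obtain rfl := wj_eq (simple_perfect hG) w ho e
  obtain ⟨f⟩ := prod_equiv h1 w.dp
  rcases jtw' (simple_perfect hG) hab h1 h5.le (f.trans ((MulEquiv.refl _).prodCongr e)) with ⟨m, m1, k1, k2⟩ | ⟨-, k, -⟩
  · intro p hp hd
    by_contra hρ
    obtain ⟨z, a, rfl, -, i⟩ := ree_real w (simple_perfect hG) e m1 k1 k2 hp hd fun r =>
      hρ (psl_pi' h5 e (piHom_sub h0 _) h2' p hp r)
    exact not_real h0 h2' hp hρ i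
  refine of_cyc hG h0 fun p hp hρ hd => cyc_of_not_sq hp fun h => ?_
  rw [k.card, show 175560 = 2 ^ 3 * (3 * (5 * (7 * (11 * 19)))) from rfl] at h hd
  have : p = 2 ∨ p = 3 ∨ p = 5 ∨ p = 7 ∨ p = 11 ∨ p = 19 := by
    simp only [hp.dvd_mul] at hd
    exact hd.imp (fun e => (Nat.prime_dvd_prime_iff_eq hp (by norm_num)).1 (hp.dvd_of_dvd_pow e))
      (Or.imp (Nat.prime_dvd_prime_iff_eq hp (by norm_num)).1 (Or.imp (Nat.prime_dvd_prime_iff_eq hp (by norm_num)).1
      (Or.imp (Nat.prime_dvd_prime_iff_eq hp (by norm_num)).1 (Or.imp (Nat.prime_dvd_prime_iff_eq hp (by norm_num)).1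
      (Nat.prime_dvd_prime_iff_eq hp (by norm_num)).1))))
  rcases this with rfl | rfl | rfl | rfl | rfl | rfl
  · exact hρ h2'
  all_goals norm_num at h

/-- Abelian, or an image of a dihedral group. -/
def AD (T : Type*) [Group T] : Prop := IsMulCommutative T ∨ ∃ (n : ℕ) (f : DihedralGroup n →* T), Function.Surjective f

theorem AD.map {T T' : Type*} [Group T] [Group T'] (h : AD T) (f : T →* T') (hf : Function.Surjective f) : AD T' := by
  rcases h with h | ⟨n, g, hg⟩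
  · refine .inl ⟨⟨fun a b => ?_⟩⟩
    obtain ⟨a, rfl⟩ := hf a
    obtain ⟨b, rfl⟩ := hf b
    rw [← map_mul, h.is_comm.comm, map_mul]
  · exact .inr ⟨n, f.comp g, hf.comp hg⟩

theorem AD.dih (h : AD G) : IsMulCommutative G ∨ ∃ n, Nonempty (G ≃* DihedralGroup n) := by
  rcases h with h | ⟨n, f, hf⟩
  · exact .inl h
  have ss : f (.sr 0) * f (.sr 0) = 1 := by rw [← map_mul, DihedralGroup.sr_mul_self, map_one]
  have hi : f (.sr 0) * f (.r 1) * (f (.sr 0))⁻¹ = (f (.r 1))⁻¹ := by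
    rw [← map_inv, ← map_mul, ← map_mul, ← map_inv]; simp
  have k : ∀ A : Subgroup G, f (.sr 0) ∈ A → f (.r 1) ∈ A → A = ⊤ := fun A h1 h2 => by
    have hr : ∀ i, f (.r i) ∈ A := fun i => by
      obtain ⟨j, rfl⟩ := ZMod.intCast_surjective i
      rw [← DihedralGroup.r_one_zpow, map_zpow]; exact zpow_mem h2 j
    refine (eq_top_iff' _).2 fun x => ?_
    obtain ⟨x | x, rfl⟩ := hf x
    · exact hr x
    · simpa [← map_mul] using mul_mem h1 (hr x)
  by_cases e : f (.sr 0) ∈ zpowers (f (.r 1))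
  · have : IsCyclic G := ⟨⟨f (.r 1), fun x => (k _ e (mem_zpowers _)).ge (mem_top x)⟩⟩
    exact .inl ⟨⟨IsCyclic.commGroup.mul_comm⟩⟩
  obtain ⟨g⟩ := Invol.closure_equiv_dihedral ss hi e
  exact .inr ⟨_, ⟨(topEquiv.symm.trans (MulEquiv.subgroupCongr
    (k _ (subset_closure (by simp)) (subset_closure (by simp))).symm)).trans g⟩⟩

theorem cl_of_AD {G : Type u} [Group G] [Finite G] (h2 : 2 ∈ ρ) (h0 : PiHom ρ G)
    (h : Group.IsSolvable G ∨ ∀ T : Subgroup G, IsPGroup 2 T → AD T) : Cl ρ G := by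
  refine closed_induction (fun G _ _ => Group.IsSolvable G ∨ ∀ T : Subgroup G, IsPGroup 2 T → AD T)
    (fun G _ _ H _ _ h => .inl (h.imp (fun hs => by haveI := hs; infer_instance) fun h T hT => ?_))
    (fun G _ _ N _ h => h.imp (fun hs => by haveI := hs; infer_instance) fun h T hT => ?_)
    (fun G _ _ _ hG h0 h => ?_) G h0 h
  · exact (h _ (hT.map H.subtype)).map (T.equivMapOfInjective _ H.subtype_injective).symm.toMonoidHom
      (MulEquiv.surjective _)
  · obtain ⟨R, hR⟩ := Sylow_exists 2 (T.comap (QuotientGroup.mk' N))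
    have e := pHall_map (QuotientGroup.mk' N) hR
    rw [map_comap_eq_self_of_surjective (QuotientGroup.mk'_surjective N)] at e
    obtain rfl : R.map (QuotientGroup.mk' N) = T := Hall_eq_of_le e (pHall_id (pgroup_iff.1 hT)) e.le
    exact (h R hR.pg).map _ ((QuotientGroup.mk' N).subgroupMap_surjective R)
  have ns : ¬ Group.IsSolvable G := fun hs => hG ⟨⟨IsSimpleGroup.comm_iff_isSolvable.2 hs⟩⟩
  refine cl_of_pi fun x => PiNat.of_dvd ?_ (orderOf_dvd_natCard x)
  obtain ⟨S⟩ : Nonempty (Sylow 2 G) := inferInstance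
  rcases (h.resolve_left ns S S.2).dih with k | ⟨n, ⟨e⟩⟩
  · exact ab_pi hG S k h0 h2
  rcases gw_simple (dihSyl_of_not_sol S e ns) with ⟨q, F, _, _, rfl, -, k, ⟨e⟩⟩ | ⟨⟨e⟩⟩
  · exact psl_pi' (by rw [Nat.card_eq_fintype_card]; omega) e h0 h2
  · exact a7_pi hG e h0 h2

end Cfsg.Agent.ReeW
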